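import Cfsg.Agent.Lib.Sporadic.JTwoFive.Defs

/-!
Part of the count for one step.
-/

set_option autoImplicit false
set_option maxRecDepth 100000
set_option maxHeartbeats 0

namespace CfsgLib.Sporadic.JTwoFive

theorem countD_oct1b : octCount (dTab 1) (octLeafD 1) 380 379 = 13 := by decide +kernel

theorem countD_odd1b : oddCount (dTab 1) (oddLeafD 1) 2048 2048 = 3 := by decide +kernel

end CfsgLib.Sporadic.JTwoFive
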