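import Cfsg.Agent.Lib.Sporadic.JTwoFive.Defs

/-!
Part of the count of the vectors with inner product -16 with their image.
-/

set_option autoImplicit false
set_option maxRecDepth 100000
set_option maxHeartbeats 0

namespace CfsgLib.Sporadic.JTwoFive

theorem countQ_oct2 : octCount tabQ octLeafQ 200 100 = 2560 := by decide +kernel

theorem countQ_odd2 : oddCount tabQ oddLeafQ 1024 512 = 2208 := by decide +kernel

end CfsgLib.Sporadic.JTwoFive
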