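import Cfsg.Agent.Lib.Sporadic.JTwoFive.Sound
import Cfsg.Agent.Lib.Sporadic.JTwoFive.CountQ0
import Cfsg.Agent.Lib.Sporadic.JTwoFive.CountQ1
import Cfsg.Agent.Lib.Sporadic.JTwoFive.CountQ2
import Cfsg.Agent.Lib.Sporadic.JTwoFive.CountQ3
import Cfsg.Agent.Lib.Sporadic.JTwoFive.CountQ4
import Cfsg.Agent.Lib.Sporadic.JTwoFive.CountQ5
import Cfsg.Agent.Lib.Sporadic.JTwoFive.CountQ6
import Cfsg.Agent.Lib.Sporadic.JTwoFive.CountQ7
import Cfsg.Agent.Lib.Sporadic.JTwoFive.CountD0a
import Cfsg.Agent.Lib.Sporadic.JTwoFive.CountD0b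
import Cfsg.Agent.Lib.Sporadic.JTwoFive.CountD1a
import Cfsg.Agent.Lib.Sporadic.JTwoFive.CountD1b
import Cfsg.Agent.Lib.Sporadic.JTwoFive.CountD2a
import Cfsg.Agent.Lib.Sporadic.JTwoFive.CountD2b
import Cfsg.Agent.Lib.Sporadic.JTwoFive.CountD3a
import Cfsg.Agent.Lib.Sporadic.JTwoFive.CountD3b
import Cfsg.Agent.Lib.Sporadic.JTwoFive.CountD4a
import Cfsg.Agent.Lib.Sporadic.JTwoFive.CountD4b

/-!
The totals of the counts.
-/

set_option autoImplicit false
set_option maxRecDepth 100000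

namespace CfsgLib.Sporadic.JTwoFive

open CfsgLib.SmallGroups CfsgLib.SmallGroups.Golay CfsgLib.SmallGroups.GolayOctads CfsgLib.SmallGroups.LeechEnum
  CfsgLib.SmallGroups.LeechParamCount

theorem octs_length : (cwOfWeight 8).length = 759 := by decide +kernel

attribute [local irreducible] pc enc cw cwOfWeight

theorem octEnd (T : Tab) (oc : ℕ → ℕ → ℕ → Bool) : (((cwOfWeight 8).drop 759).map (octOne T oc)).sum = 0 := by
  rw [List.drop_eq_nil_of_le octs_length.le]
  rfl

theorem count_Q : cnt testQ = 37800 := by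
  rw [cnt, testQ, cntPair_eq, cntOct_eq, cntOdd_eq, countQ_pair]
  rw [octRest tabQ octLeafQ 0 100, countQ_oct0, show 0 + 100 = 100 from rfl]
  rw [octRest tabQ octLeafQ 100 100, countQ_oct1, show 100 + 100 = 200 from rfl]
  rw [octRest tabQ octLeafQ 200 100, countQ_oct2, show 200 + 100 = 300 from rfl]
  rw [octRest tabQ octLeafQ 300 100, countQ_oct3, show 300 + 100 = 400 from rfl]
  rw [octRest tabQ octLeafQ 400 100, countQ_oct4, show 400 + 100 = 500 from rfl]
  rw [octRest tabQ octLeafQ 500 100, countQ_oct5, show 500 + 100 = 600 from rfl]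
  rw [octRest tabQ octLeafQ 600 100, countQ_oct6, show 600 + 100 = 700 from rfl]
  rw [octRest tabQ octLeafQ 700 59, countQ_oct7, show 700 + 59 = 759 from rfl]
  rw [octEnd]
  rw [show 4096 = 3584 + 512 from rfl, oddFirst tabQ oddLeafQ 3584 512, countQ_odd7]
  rw [show 3584 = 3072 + 512 from rfl, oddFirst tabQ oddLeafQ 3072 512, countQ_odd6]
  rw [show 3072 = 2560 + 512 from rfl, oddFirst tabQ oddLeafQ 2560 512, countQ_odd5]
  rw [show 2560 = 2048 + 512 from rfl, oddFirst tabQ oddLeafQ 2048 512, countQ_odd4]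
  rw [show 2048 = 1536 + 512 from rfl, oddFirst tabQ oddLeafQ 1536 512, countQ_odd3]
  rw [show 1536 = 1024 + 512 from rfl, oddFirst tabQ oddLeafQ 1024 512, countQ_odd2]
  rw [show 1024 = 512 + 512 from rfl, oddFirst tabQ oddLeafQ 512 512, countQ_odd1]
  rw [show 512 = 0 + 512 from rfl, oddFirst tabQ oddLeafQ 0 512, countQ_odd0]
  rfl

theorem count_D0 : cnt (testD 0) = 5 := by
  rw [cnt, testD, cntPair_eq, cntOct_eq, cntOdd_eq, countD_pair0]
  rw [octRest _ _ 0 380, countD_oct0a, show 0 + 380 = 380 from rfl, octRest _ _ 380 379, countD_oct0b,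
    show 380 + 379 = 759 from rfl, octEnd]
  rw [show 4096 = 2048 + 2048 from rfl, oddFirst _ _ 2048 2048, show 2048 = 0 + 2048 from rfl, oddFirst _ _ 0 2048,
    countD_odd0a, show 0 + 2048 = 2048 from rfl, countD_odd0b]
  rfl

theorem count_D1 : cnt (testD 1) = 32 := by
  rw [cnt, testD, cntPair_eq, cntOct_eq, cntOdd_eq, countD_pair1]
  rw [octRest _ _ 0 380, countD_oct1a, show 0 + 380 = 380 from rfl, octRest _ _ 380 379, countD_oct1b,
    show 380 + 379 = 759 from rfl, octEnd]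
  rw [show 4096 = 2048 + 2048 from rfl, oddFirst _ _ 2048 2048, show 2048 = 0 + 2048 from rfl, oddFirst _ _ 0 2048,
    countD_odd1a, show 0 + 2048 = 2048 from rfl, countD_odd1b]
  rfl

theorem count_D2 : cnt (testD 2) = 1 := by
  rw [cnt, testD, cntPair_eq, cntOct_eq, cntOdd_eq, countD_pair2]
  rw [octRest _ _ 0 380, countD_oct2a, show 0 + 380 = 380 from rfl, octRest _ _ 380 379, countD_oct2b,
    show 380 + 379 = 759 from rfl, octEnd]
  rw [show 4096 = 2048 + 2048 from rfl, oddFirst _ _ 2048 2048, show 2048 = 0 + 2048 from rfl, oddFirst _ _ 0 2048,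
    countD_odd2a, show 0 + 2048 = 2048 from rfl, countD_odd2b]
  rfl

theorem count_D3 : cnt (testD 3) = 1 := by
  rw [cnt, testD, cntPair_eq, cntOct_eq, cntOdd_eq, countD_pair3]
  rw [octRest _ _ 0 380, countD_oct3a, show 0 + 380 = 380 from rfl, octRest _ _ 380 379, countD_oct3b,
    show 380 + 379 = 759 from rfl, octEnd]
  rw [show 4096 = 2048 + 2048 from rfl, oddFirst _ _ 2048 2048, show 2048 = 0 + 2048 from rfl, oddFirst _ _ 0 2048,
    countD_odd3a, show 0 + 2048 = 2048 from rfl, countD_odd3b]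
  rfl

theorem count_D4 : cnt (testD 4) = 1 := by
  rw [cnt, testD, cntPair_eq, cntOct_eq, cntOdd_eq, countD_pair4]
  rw [octRest _ _ 0 380, countD_oct4a, show 0 + 380 = 380 from rfl, octRest _ _ 380 379, countD_oct4b,
    show 380 + 379 = 759 from rfl, octEnd]
  rw [show 4096 = 2048 + 2048 from rfl, oddFirst _ _ 2048 2048, show 2048 = 0 + 2048 from rfl, oddFirst _ _ 0 2048,
    countD_odd4a, show 0 + 2048 = 2048 from rfl, countD_odd4b]
  rfl

/-- The bound at each step. -/
def bound : ℕ → ℕ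
  | 0 => 5
  | 1 => 32
  | _ => 1

theorem count_D {k : ℕ} (hk : k < 5) : cnt (testD k) ≤ bound k := by
  interval_cases k
  exacts [count_D0.le, count_D1.le, count_D2.le, count_D3.le, count_D4.le]

end CfsgLib.Sporadic.JTwoFive
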