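import Cfsg.Agent.Lib.Sporadic.JTwoFive.Data
import Cfsg.Agent.Lib.Sporadic.JTwoFive.Tables

/-!
Tests on the parameters of the minimal vectors: the inner product with the image under the element of order
five, and inner products with given vectors.
-/

set_option autoImplicit false
set_option maxRecDepth 100000

namespace CfsgLib.Sporadic.JTwoFive

open CfsgLib.SmallGroups CfsgLib.SmallGroups.Golay CfsgLib.SmallGroups.LeechEnum CfsgLib.SmallGroups.LeechParamCount

/-- An entry of the matrix. -/
def mE (l m : ℕ) : ℤ := (matM.getD l []).getD m 0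

/-- A listed vector. -/
def vec (i : ℕ) : List ℤ := vecs24.getD i []

/-- The conditions of a step. -/
def conds (k : ℕ) : List (ℕ × ℤ) := condTab.getD k []

/-- The table of a step. -/
def dTab (k : ℕ) : Tab := tabD.getD k ⟨0, 0, 0, []⟩

/-- The odd vectors with the inner products of a step. -/
noncomputable def oddLeafD (k a c p : ℕ) : Bool :=
  Nat.beq a (cond (Nat.testBit c p) (entry (dTab k).w (tgtN.getD k 0) p) (entry (dTab k).w (tgtP.getD k 0) p))

/-- The octad vectors with the inner products of a step. -/
noncomputable def octLeafD (k : ℕ) (_o _m a : ℕ) : Bool := Nat.beq a (tgtO.getD k 0)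

/-- The pair vectors with the inner products of a step. -/
def pairD (k i j : ℕ) (a b : ℤ) : Bool :=
  (conds k).all fun e => a * (vec e.1).getD i 0 + b * (vec e.1).getD j 0 == e.2

/-- The pair vectors with the inner product -16 with the image. -/
def pairQ (i j : ℕ) (a b : ℤ) : Bool :=
  a * a * mE i i + b * b * mE j j + a * b * (mE i j + mE j i) == -128

/-- The count of the pair parameters passing a test. -/
def pairCount (f : ℕ → ℕ → ℤ → ℤ → Bool) : ℕ :=
  cntPair ⟨f, fun _ _ _ => false, fun _ => false, fun _ _ => false⟩

/-- The mask of sixteen digits. -/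
noncomputable def lowMask : ℕ := Nat.sub (Nat.pow 2 384) 1

/-- The sum of the digits selected by a mask. -/
noncomputable def digits (a m : ℕ) : ℕ := Nat.mod (Nat.land a m) 65535

/-- A one in each digit. -/
def onesK : ℕ := 0x100010001000100010001000100010001000100010001000100010001000100010001000100010001000100010001

/-- The octad vectors with inner product -16 with the image. -/
noncomputable def octLeafQ (o k a : ℕ) : Bool :=
  force (Nat.shiftRight (posSum tabQ (bitsOf o) 0) 384) fun om =>
    Nat.beq (Nat.add (Nat.mul 2 (digits a (Nat.shiftRight a 384))) (Nat.add 64 (Nat.mul 256 k)))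
      (Nat.add (digits a om) 1024)

/-- The odd vectors with inner product -16 with the image. -/
noncomputable def oddLeafQ (a c p : ℕ) : Bool :=
  force (Nat.add (Nat.mul 2 (digits a (Nat.shiftRight a 384))) 9472) fun lhs =>
  force (Nat.add (digits a lowMask) (Nat.add 256 (Nat.mul 768 (digits (Nat.shiftRight a 384) onesK)))) fun rhs =>
  force (Nat.add lhs (Nat.mul 16 (entry 16 diagK p))) fun l2 =>
  cond (Nat.testBit c p)
    (Nat.beq (Nat.add l2 (Nat.mul 8 (entry 16 a p))) (Nat.add rhs 3072))
    (Nat.beq (Nat.add l2 3072) (Nat.add rhs (Nat.mul 8 (entry 16 a p))))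

end CfsgLib.Sporadic.JTwoFive
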