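import Mathlib.Data.Nat.Notation
import Mathlib.Data.Int.Notation

/-!
A multiple of each basis vector as a combination of the six vectors and their images.
-/

set_option autoImplicit false
set_option maxRecDepth 100000

namespace CfsgLib.Sporadic.JTwoFive

/-- The multiple. -/
def spanDen : ℕ := 1

/-- The coefficients. -/
def spanRows : List (List ℤ) := [[1, 0, -2, -3, -3, 0, 1, -1, 0, 0, -1, -2, -1, 0, 0, -2, 1, 1, 0, 1, -1, -1, -1, 0],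
  [-3, -2, 2, 3, 0, 0, -3, -4, -3, -3, -1, -1, -3, -2, -1, -2, -1, -1, -2, 1, 2, 3, 2, 0],
  [-3, -3, 0, 1, 0, 1, -2, -3, -2, -2, -1, 0, -2, -1, -1, -1, 0, -1, -1, 1, 1, 2, 1, 0],
  [-1, 0, 2, 2, 1, 0, -1, -1, 0, -1, 0, 1, 0, 0, 1, 1, 0, -1, -1, 0, 1, 2, 1, 0],
  [1, -1, -3, -3, -2, 1, 2, 0, -1, -1, -2, -3, -1, 0, 0, -2, 1, 1, -1, 1, -1, 0, 0, 0],
  [-1, -1, 0, 0, -1, 0, -1, -2, -1, 0, -1, 0, -1, 0, 0, 0, 1, 0, 0, 1, 0, 1, 0, 0],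
  [-3, -2, 1, 2, 0, 1, -2, -3, -2, -2, -1, 0, -2, -1, -1, -1, 0, -1, -1, 1, 1, 2, 1, 0],
  [-4, -5, -3, 0, 2, 4, 0, -1, -2, -2, -3, 0, -1, 0, -1, 0, 0, -2, -2, 0, 1, 3, 2, 1],
  [-3, -8, -8, -3, 2, 6, 4, 0, -1, -3, -4, -2, -1, -1, -2, -2, 1, -1, -2, 0, 0, 2, 3, 2],
  [0, 0, -1, -1, -2, 1, 0, 0, -1, 0, -2, -1, -2, 0, -1, -1, 2, 1, 0, 1, 0, 1, 1, 1],
  [-2, -1, 1, 1, -1, 0, -2, -3, -2, -1, -1, 0, -2, -1, -1, -1, 0, -1, -1, 1, 1, 2, 1, 0],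
  [0, -3, -4, -3, -1, 2, 3, 0, 0, -1, -2, -2, -1, -1, -1, -2, 1, 1, -1, 0, -1, 0, 1, 1],
  [2, 5, 5, 1, -3, -4, -3, -2, 0, 1, 2, 0, 0, 1, 2, 0, -1, 0, 0, 1, 0, -1, -2, -2],
  [1, 0, 0, -1, -2, -1, 0, -2, -1, -1, 0, -2, -1, -1, 0, -2, 0, 1, 0, 1, -1, -1, -1, -1],
  [0, 2, 3, 1, -3, -2, -3, -3, -2, 0, 0, -1, -2, 0, 0, -1, 0, 0, 0, 1, 0, 0, -1, -1],
  [2, 2, 0, -2, -3, -1, 0, -1, 0, 1, 1, -1, -1, 0, 0, -2, 0, 1, 0, 1, -1, -2, -2, -1],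
  [1, -1, -3, -3, -3, 0, 2, -1, 0, -1, -1, -3, -1, -1, 0, -3, 0, 1, -1, 0, -1, -1, 0, 0],
  [5, 5, 0, -4, -4, -2, 2, 2, 2, 3, 1, -1, 1, 2, 2, 0, 1, 2, 1, 0, -2, -3, -3, -1],
  [-1, -2, -2, -1, 0, 1, 1, -1, 1, -1, 0, 0, 1, 0, 1, 0, -1, -1, -1, -1, 0, 0, 0, 0],
  [3, 3, 0, -2, -3, -1, 1, 0, 0, 0, 0, -2, 0, 1, 1, -2, 0, 1, 0, 1, -1, -2, -2, -1],
  [1, 0, -2, -3, -3, 0, 1, -1, -1, 0, -1, -2, -1, 0, 0, -2, 1, 1, 0, 1, -1, -1, -1, 0],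
  [3, 4, 2, -1, -3, -2, 0, 0, 1, 2, 1, 0, 0, 1, 1, 0, 1, 1, 1, 1, -1, -2, -2, -1],
  [2, 5, 5, 1, -4, -4, -3, -2, 0, 1, 2, 0, -1, 0, 1, -1, 0, 1, 1, 1, 0, -1, -2, -1],
  [5, 6, 2, -3, -6, -4, 0, -1, 1, 2, 2, -2, 0, 1, 2, -2, 0, 2, 1, 1, -2, -4, -4, -2]]

end CfsgLib.Sporadic.JTwoFive
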