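import Cfsg.Agent.Lib.Sporadic.JTwoFive.Defs
import Cfsg.Agent.Lib.Sporadic.JTwoFive.Span
import Cfsg.Agent.Lib.Schur.Suz.Cover
import Cfsg.Agent.Lib.SmallGroups.LeechLists

/-!
An element of order five of the automorphism group of the rank 24 lattice, given by its matrix.
-/

set_option autoImplicit false
set_option maxRecDepth 100000

namespace CfsgLib.Sporadic.JTwoFive

open Cfsg CfsgLib.SmallGroups CfsgLib.SmallGroups.Golay CfsgLib.Schur.Tails.Mat CfsgLib.Schur.Sporadic
open CfsgLib.Sporadic.OutCert (lk)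
open CfsgLib.ThreeTransp

/-- The product of a vector with the matrix. -/
def mulM (v : GolayPt → ℤ) (p : GolayPt) : ℤ := ∑ q, v q * mE (idx q) (idx p)

theorem mulM_add (v w : GolayPt → ℤ) (p : GolayPt) : mulM (v + w) p = mulM v p + mulM w p := by
  simp only [mulM, Pi.add_apply, add_mul, Finset.sum_add_distrib]

/-- The coordinates of the image. -/
def stepX (c : Fin 24 → ℤ) : Fin 24 → ℤ := fun i => ∑ j, c j * Co1.row (rowsX.getD j.1 []) i

theorem basis_img : ∀ (j : Fin 24) (p : GolayPt),
    mulM (Co1.bvec j) p = 8 * Co1.combI (rowsX.getD j.1 []) p := by decide +kernel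

theorem mulM_comb (c : Fin 24 → ℤ) (p : GolayPt) :
    mulM (Co1.comb c : GolayPt → ℤ) p = 8 * (Co1.comb (stepX c) : GolayPt → ℤ) p := by
  have hl : ∀ (a : Fin 24 → ℤ) (q : GolayPt), ((Co1.comb a : leechLattice) : GolayPt → ℤ) q = ∑ j, a j * Co1.bvec j q := by
    intro a q
    simp [Co1.comb, Co1.bL, Co1.bvec, AddSubgroup.val_finsetSum, Finset.sum_apply]
  rw [hl, mulM]
  calc ∑ q, (Co1.comb c : GolayPt → ℤ) q * mE (idx q) (idx p)
      = ∑ j, c j * mulM (Co1.bvec j) p := by
        simp only [mulM, hl, Finset.sum_mul, Finset.mul_sum, mul_assoc]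
        exact Finset.sum_comm
    _ = ∑ j, c j * (8 * ∑ i, Co1.row (rowsX.getD j.1 []) i * Co1.bvec i p) := by
        simp only [basis_img]
        rfl
    _ = _ := by
        simp only [stepX, Finset.mul_sum, Finset.sum_mul]
        rw [Finset.sum_comm]
        exact Finset.sum_congr rfl fun i _ => Finset.sum_congr rfl fun j _ => by ring

theorem exists_img (v : leechLattice) : ∃ w : leechLattice, ∀ p, mulM v p = 8 * (w : GolayPt → ℤ) p := by
  obtain ⟨c, rfl⟩ := Co1.mem_span v
  exact ⟨Co1.comb (stepX c), mulM_comb c⟩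

/-- The map given by the matrix. -/
noncomputable def xfun (v : leechLattice) : leechLattice := (exists_img v).choose

theorem xfun_spec (v : leechLattice) (p : GolayPt) : mulM v p = 8 * (xfun v : GolayPt → ℤ) p :=
  (exists_img v).choose_spec p

theorem xfun_eq {v w : leechLattice} (h : ∀ p, mulM v p = 8 * (w : GolayPt → ℤ) p) : xfun v = w :=
  Subtype.ext (funext fun p => by have := (xfun_spec v p).symm.trans (h p); omega)

theorem xfun_comb (c : Fin 24 → ℤ) : xfun (Co1.comb c) = Co1.comb (stepX c) := xfun_eq (mulM_comb c)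

theorem xfun_add (v w : leechLattice) : xfun (v + w) = xfun v + xfun w :=
  xfun_eq fun p => by rw [AddSubgroup.coe_add, mulM_add, xfun_spec, xfun_spec, AddSubgroup.coe_add, Pi.add_apply, mul_add]

theorem orth_ok : ∀ l m : Fin 24, (∑ p : Fin 24, mE l p * mE m p) = if l = m then 64 else 0 := by decide +kernel

theorem sum_fin (f : ℕ → ℤ) : ∑ q : GolayPt, f (idx q) = ∑ i : Fin 24, f i :=
  Finset.sum_bij (fun q _ => ⟨idx q, idx_lt q⟩) (fun _ _ => Finset.mem_univ _)
    (fun _ _ _ _ e => idx_injective (congrArg Fin.val e)) (fun i _ => ⟨pt i, Finset.mem_univ _, Fin.ext (idx_pt i.2)⟩)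
    fun _ _ => rfl

theorem xfun_norm (v : leechLattice) : sqNorm (xfun v : GolayPt → ℤ) = sqNorm (v : GolayPt → ℤ) := by
  have h : ∀ p, 64 * (xfun v : GolayPt → ℤ) p ^ 2 = mulM v p ^ 2 := fun p => by rw [xfun_spec]; ring
  have e : (64 : ℤ) * sqNorm (xfun v : GolayPt → ℤ) = 64 * sqNorm (v : GolayPt → ℤ) := by
    simp only [sqNorm, Finset.mul_sum, h]
    calc ∑ p, mulM v p ^ 2
        = ∑ p, ∑ q, ∑ r, (v : GolayPt → ℤ) q * (v : GolayPt → ℤ) r * (mE (idx q) (idx p) * mE (idx r) (idx p)) := by
          refine Finset.sum_congr rfl fun p _ => ?_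
          rw [sq, mulM, Finset.sum_mul_sum]
          exact Finset.sum_congr rfl fun q _ => Finset.sum_congr rfl fun r _ => by ring
      _ = ∑ q, ∑ r, (v : GolayPt → ℤ) q * (v : GolayPt → ℤ) r * ∑ p, mE (idx q) (idx p) * mE (idx r) (idx p) := by
          rw [Finset.sum_comm]
          refine Finset.sum_congr rfl fun q _ => ?_
          rw [Finset.sum_comm]
          simp only [Finset.mul_sum]
      _ = ∑ q, ∑ r, if q = r then 64 * (v : GolayPt → ℤ) q ^ 2 else 0 := by
          refine Finset.sum_congr rfl fun q _ => Finset.sum_congr rfl fun r _ => ?_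
          rw [sum_fin (fun p => mE (idx q) p * mE (idx r) p), orth_ok ⟨idx q, idx_lt q⟩ ⟨idx r, idx_lt r⟩]
          by_cases hqr : q = r
          · subst hqr; rw [if_pos rfl, if_pos rfl]; ring
          · rw [if_neg hqr, if_neg fun e => hqr (idx_injective (congrArg Fin.val e)), mul_zero]
      _ = _ := Finset.sum_congr rfl fun q _ => by rw [Finset.sum_ite_eq, if_pos (Finset.mem_univ _)]
  omega

/-- A list as a row, transformed. -/
def stepL (l : List ℤ) : List ℤ := List.ofFn (stepX (Co1.row l))

theorem row_stepL (l : List ℤ) : Co1.row (stepL l) = stepX (Co1.row l) := funext fun i => by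
  rw [stepL, Co1.row, List.getD_eq_getElem _ _ (by simp), List.getElem_ofFn]

/-- A unit row. -/
def unitL (j : ℕ) : List ℤ := List.ofFn fun i : Fin 24 => if i.1 = j then 1 else 0

theorem five_ok : ∀ j : Fin 24, stepL (stepL (stepL (stepL (stepL (unitL j.1))))) = unitL j.1 := by decide +kernel

theorem comb_unit (j : Fin 24) : Co1.comb (Co1.row (unitL j.1)) = Co1.bL j := by
  have e : Co1.row (unitL j.1) = fun i => if i = j then 1 else 0 := funext fun i => by
    rw [unitL, Co1.row, List.getD_eq_getElem _ _ (by simp), List.getElem_ofFn]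
    exact ite_congr (by simp [Fin.ext_iff]) (fun _ => rfl) fun _ => rfl
  rw [e, Co1.comb, Finset.sum_eq_single j (fun i _ h => by rw [if_neg h, zero_smul]) (by simp), if_pos rfl, one_smul]

theorem xfun_five (v : leechLattice) : xfun (xfun (xfun (xfun (xfun v)))) = v := by
  let f : leechLattice →+ leechLattice := AddMonoidHom.mk' xfun xfun_add
  obtain ⟨c, rfl⟩ := Co1.mem_span v
  show (f.comp (f.comp (f.comp (f.comp f)))) (Co1.comb c) = Co1.comb c
  rw [Co1.comb, map_sum]
  refine Finset.sum_congr rfl fun j _ => ?_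
  rw [map_zsmul]
  congr 1
  show xfun (xfun (xfun (xfun (xfun (Co1.bL j))))) = _
  rw [← comb_unit, xfun_comb, ← row_stepL, xfun_comb, ← row_stepL, xfun_comb, ← row_stepL, xfun_comb, ← row_stepL,
    xfun_comb, ← row_stepL, five_ok]

/-- The element of order five. -/
noncomputable def x : Co0 :=
  ⟨{ toFun := xfun
     invFun := fun v => xfun (xfun (xfun (xfun v)))
     left_inv := xfun_five
     right_inv := xfun_five }, xfun_add, xfun_norm⟩

theorem x_smul (v : leechLattice) : x • v = xfun v := rfl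

theorem x_pow : x ^ 5 = 1 := by
  refine Subtype.ext (Equiv.ext fun v => ?_)
  show (x ^ 5) • v = v
  simp only [pow_succ, pow_zero, one_mul, mul_smul, x_smul, xfun_five]

theorem code_ok : ∀ j : Fin 24, lk 24 codeX j.1 = Co1.bitsI (rowsX.getD j.1 []) := by decide +kernel

theorem x_bL (j : Fin 24) : x • Co1.bL j = Co1.comb (Co1.row (rowsX.getD j.1 [])) := by
  rw [x_smul, ← comb_unit, xfun_comb]
  refine congrArg Co1.comb (funext fun i => ?_)
  rw [stepX, Finset.sum_eq_single j]
  · rw [Co1.row, unitL, List.getD_eq_getElem _ _ (by simp), List.getElem_ofFn]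
    simp
  · intro k _ hk
    rw [Co1.row, unitL, List.getD_eq_getElem _ _ (by simp), List.getElem_ofFn]
    simp [Fin.val_ne_of_ne hk]
  · simp

theorem rep_x : RepM 24 codeX (Co1.psi (x : Spor.Co1)) := Co1.rep_of_columns x _ rowsX x_bL code_ok

theorem x_ne : x ≠ 1 := fun h => by
  have h1 : ((x • Co1.bL 0 : leechLattice) : GolayPt → ℤ) (pt 1) = (Co1.bL 0 : GolayPt → ℤ) (pt 1) := by
    rw [h, one_smul]
  rw [x_bL, Co1.coe_comb] at h1
  revert h1
  show Co1.combI (rowsX.getD 0 []) (pt 1) = Co1.bvec 0 (pt 1) → False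
  decide +kernel

theorem order_x : orderOf x = 5 := by
  haveI := Fact.mk (show Nat.Prime 5 by norm_num)
  exact orderOf_eq_prime x_pow x_ne

/-- The subgroup of order five. -/
noncomputable def A : Subgroup Co0 := Subgroup.zpowers x

theorem card_A : Nat.card A = 5 := by rw [A, Nat.card_zpowers, order_x]

end CfsgLib.Sporadic.JTwoFive
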