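import Cfsg.Agent.Lib.SmallGroups.LeechParamCount

/-!
Counting parameters of minimal vectors with packed sums.
-/

set_option autoImplicit false
set_option maxRecDepth 100000

namespace CfsgLib.Sporadic.JTwoFive

open CfsgLib.SmallGroups CfsgLib.SmallGroups.Golay CfsgLib.SmallGroups.LeechEnum CfsgLib.SmallGroups.LeechParamCount

/-- Forcing the evaluation of a number. -/
def force {β : Type} (n : ℕ) (f : ℕ → β) : β :=
  match n with
  | 0 => f 0
  | m + 1 => f (m + 1)

theorem force_eq {β : Type} (n : ℕ) (f : ℕ → β) : force n f = f n := by cases n <;> rfl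

/-- One entry of a packed table of width `w`. -/
noncomputable def entry (w t l : ℕ) : ℕ := Nat.mod (Nat.shiftRight t (Nat.mul w l)) (Nat.pow 2 w)

/-- The packed tables of one test. -/
structure Tab where
  /-- The width. -/
  w : ℕ
  /-- The entries for plus signs. -/
  pos : ℕ
  /-- The entries for minus signs. -/
  neg : ℕ
  /-- The sums for four places at a time. -/
  nib : List ℕ

/-- The selected entry. -/
noncomputable def Tab.sel (T : Tab) (b : Bool) (l : ℕ) : ℕ := cond b (entry T.w T.neg l) (entry T.w T.pos l)

/-- The sum of the selected entries. -/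
noncomputable def selSum (T : Tab) (n : ℕ) : List ℕ → ℕ
  | [] => 0
  | l :: ls => Nat.add (T.sel (Nat.testBit n l) l) (selSum T n ls)

/-- The sum over all places, four at a time. -/
noncomputable def nibSum (T : Tab) (c : ℕ) : ℕ :=
  (T.nib.foldr (fun t r c => Nat.add (entry T.w t (Nat.mod c 16)) (r (Nat.div c 16))) (fun _ => 0)) c

/-- The tables of fours are right. -/
noncomputable def Tab.ok (T : Tab) : Bool :=
  Nat.beq T.nib.length 6 && (List.range 6).all fun j => (List.range 16).all fun v =>
    Nat.beq (entry T.w (T.nib.getD j 0) v) (selSum T (Nat.shiftLeft v (Nat.mul 4 j)) [4 * j, 4 * j + 1, 4 * j + 2, 4 * j + 3])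

/-- The sum of the entries with plus signs. -/
noncomputable def posSum (T : Tab) : List ℕ → ℕ → ℕ
  | [], acc => acc
  | l :: ls, acc => posSum T ls (Nat.add acc (entry T.w T.pos l))

/-- The sign patterns with a given number of minus signs passing a test of the sum. -/
noncomputable def octK (T : Tab) (leaf : ℕ → Bool) : List ℕ → ℕ → ℕ → ℕ
  | l, 0, acc => cond (leaf (posSum T l acc)) 1 0
  | [], _ + 1, _ => 0
  | a :: l, k + 1, acc =>
      Nat.add (force (Nat.add acc (entry T.w T.pos a)) (octK T leaf l (k + 1)))
        (force (Nat.add acc (entry T.w T.neg a)) (octK T leaf l k))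

/-- The count of the octad parameters in a range of octads. -/
noncomputable def octCount (T : Tab) (leaf : ℕ → ℕ → ℕ → Bool) (start len : ℕ) : ℕ :=
  ((((cwOfWeight 8).drop start).take len).map fun o =>
    ([0, 2, 4, 6, 8].map fun k => octK T (leaf o k) (bitsOf o) k 0).sum).sum

/-- The count of the odd parameters in a range of code words. -/
noncomputable def oddCount (T : Tab) (leaf : ℕ → ℕ → ℕ → Bool) (start len : ℕ) : ℕ :=
  ((List.range len).map fun k => force (enc (start + k)) fun c => force (nibSum T c) fun a =>
    (List.range 24).countP fun p => leaf a c p).sum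

end CfsgLib.Sporadic.JTwoFive
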