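import Cfsg.Agent.Lib.Sporadic.JTwoFive.Element
import Cfsg.Agent.Lib.Sporadic.G2FourJTwo

/-!
The element of order five centralises a double cover of the Hall-Janko group inside the cover of the Suzuki
group.
-/

set_option autoImplicit false
set_option maxRecDepth 100000

open Cfsg CfsgLib.SmallGroups CfsgLib.Schur.Tails.Mat CfsgLib.Schur.Sporadic CfsgLib.Schur.Sporadic.Suz
open CfsgLib.Sporadic.OutCert (lk pkF)
open CfsgLib.Sporadic.CosetCert

namespace CfsgLib.Sporadic.JTwoFive

open JTwoG (grpJ)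

/-- The code of a lifted generator. -/
noncomputable def jCode (i : ℕ) : ℕ := mmul 24 (cK (i + 1)) (mmul 24 (cK (i + 1)) (cK (i + 1)))

theorem comm_ok : (∀ i < 5, mmul 24 (jCode i) codeX = mmul 24 codeX (jCode i)) ∧
    mapp 24 (mmul 24 (cK 0) codeX) 1 ≠ mapp 24 (mmul 24 codeX (cK 0)) 1 := by decide +kernel

attribute [local irreducible] mapp mmul lk pkF covK covTab codeX

/-- The image of the element. -/
noncomputable def xBar : Spor.Co1 := (x : Spor.Co1)

/-- A lifted generator. -/
noncomputable def jEl (i : ℕ) : Spor.Co1 := el (i + 1) * (el (i + 1) * el (i + 1))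

theorem jEl_comm {i : ℕ} (hi : i < 5) : jEl i * xBar = xBar * jEl i := by
  have h : RepM 24 (jCode i) (Co1.psi (jEl i)) :=
    rep_mul (rep_el (by omega)) (rep_mul (rep_el (by omega)) (rep_el (by omega)))
  exact eq_of_rep (rep_mul h rep_x) (by rw [comm_ok.1 i hi]; exact rep_mul rep_x h)

theorem xb_not_comm : xb * xBar ≠ xBar * xb :=
  ne_of_rep (rep_mul (rep_el (by norm_num)) rep_x) (rep_mul rep_x (rep_el (by norm_num))) comm_ok.2

/-- The subgroup of the lifted generators. -/
noncomputable def JK : Subgroup Spor.Co1 := Subgroup.closure (jEl '' {i | i < 5})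

theorem JK_le : JK ≤ KK := (Subgroup.closure_le _).2 fun q ⟨i, hi, e⟩ => by
  rw [← e]
  have h := el_mem (i := i + 1) (by omega) (by have : i < 5 := hi; omega)
  exact mul_mem h (mul_mem h h)

theorem JK_comm {q : Spor.Co1} (hq : q ∈ JK) : q * xBar = xBar * q := by
  have hle : JK ≤ Subgroup.centralizer {xBar} := (Subgroup.closure_le _).2 fun y ⟨i, hi, e⟩ => by
    rw [← e, SetLike.mem_coe, Subgroup.mem_centralizer_singleton_iff]
    exact jEl_comm hi
  exact Subgroup.mem_centralizer_singleton_iff.1 (hle hq)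

theorem x_not_center : x ∉ Subgroup.center Co0 := fun h => by
  have h2 : x ^ 2 = 1 := by
    rcases LeechCenter.central_cases h with e | e
    · rw [show x = 1 from Subtype.ext e, one_pow]
    · refine Subtype.ext (Equiv.ext fun v => ?_)
      rw [SubgroupClass.coe_pow, e, pow_two]
      exact neg_neg v
  have := orderOf_dvd_of_pow_eq_one h2
  rw [order_x] at this
  norm_num at this

/-- The preimage of the lifted generators in the automorphism group. -/
noncomputable def PP : Subgroup Co0 := JK.comap (QuotientGroup.mk' (Subgroup.center Co0))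

theorem PP_le : PP ≤ GG := fun _ h => JK_le h

theorem PP_comm {g : Co0} (hg : g ∈ PP) : Commute g x := by
  have hq : ((g : Co0) : Spor.Co1) * xBar = xBar * ((g : Co0) : Spor.Co1) := JK_comm hg
  have hc : (g * x * g⁻¹) * x⁻¹ ∈ Subgroup.center Co0 := by
    rw [← QuotientGroup.eq_one_iff, QuotientGroup.mk_mul, QuotientGroup.mk_mul, QuotientGroup.mk_mul,
      QuotientGroup.mk_inv, QuotientGroup.mk_inv]
    show (g : Spor.Co1) * xBar * (g : Spor.Co1)⁻¹ * xBar⁻¹ = 1
    rw [hq, mul_inv_cancel_right, mul_inv_cancel]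
  rcases LeechCenter.central_cases hc with e | e
  · have h1 : g * x * g⁻¹ * x⁻¹ = 1 := Subtype.ext e
    have h2 : g * x * g⁻¹ = x := by rwa [mul_inv_eq_one] at h1
    exact mul_inv_eq_iff_eq_mul.1 h2
  · exfalso
    generalize hcdef : g * x * g⁻¹ * x⁻¹ = c at hc e
    have h1 : g * x * g⁻¹ = c * x := by rw [← hcdef, inv_mul_cancel_right]
    have h5 : c ^ 5 = 1 := by
      have hcx : Commute c x := (Subgroup.mem_center_iff.1 hc x).symm
      have h6 : (g * x * g⁻¹) ^ 5 = 1 := by rw [conj_pow, x_pow, mul_one, mul_inv_cancel]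
      rw [h1, hcx.mul_pow, x_pow, mul_one] at h6
      exact h6
    have h2 : c ^ 2 = 1 := by
      refine Subtype.ext (Equiv.ext fun v => ?_)
      rw [SubgroupClass.coe_pow, e, pow_two]
      exact neg_neg v
    have h7 : c = 1 := by
      rw [show c = c ^ 5 * ((c ^ 2) ^ 2)⁻¹ by group, h5, h2, one_pow, inv_one, mul_one]
    have hone : LeechCenter.negLat = (1 : Equiv.Perm leechLattice) := by rw [← e, h7]; rfl
    obtain ⟨p, hp⟩ : ∃ p, (Co1.bL 0 : GolayPt → ℤ) p ≠ 0 := ⟨none, by
      show Co1.bvec 0 none ≠ 0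
      decide +kernel⟩
    have h8 := congrArg (fun w : leechLattice => (w : GolayPt → ℤ) p) (congrFun (congrArg DFunLike.coe hone) (Co1.bL 0))
    refine hp ?_
    have : -((Co1.bL 0 : GolayPt → ℤ) p) = (Co1.bL 0 : GolayPt → ℤ) p := h8
    omega

/-- The map of the preimage onto the Hall-Janko subgroup of the Suzuki group. -/
noncomputable def piP : PP →* Spor.Suz := sig.comp (Subgroup.inclusion PP_le)

theorem sig_of_el {g : GG} (s : Spor.Suz.Gen) (h : ((g : Co0) : Spor.Co1) = el (genAt s)) :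
    sig g = PresentedGroup.of s := by
  have hq : (QuotientGroup.mk' ZK) (toKK g) = toQ (PresentedGroup.of s) := by
    rw [toQ, PresentedGroup.toGroup.of, genImg, QuotientGroup.mk'_apply]
    exact congrArg _ (Subtype.ext h)
  rw [sig, MonoidHom.comp_apply, MonoidHom.comp_apply, hq]
  show (MulEquiv.ofBijective toQ ⟨toQ_injective, toQ_surjective⟩).symm
    ((MulEquiv.ofBijective toQ ⟨toQ_injective, toQ_surjective⟩) (PresentedGroup.of s)) = _
  exact MulEquiv.symm_apply_apply _ _

theorem gen_sq (s : Spor.Suz.Gen) : (PresentedGroup.of s : Spor.Suz) * PresentedGroup.of s = 1 :=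
  mul_eq_one_iff_eq_inv.2 (node_inv (SuzP.mem_nodes s)).symm

/-- The first five generators. -/
def genOf : ℕ → Spor.Suz.Gen
  | 0 => .a | 1 => .b | 2 => .c | 3 => .d | _ => .e

theorem genOf_spec : ∀ i < 5, genAt (genOf i) = i + 1 ∧ SuzP.code (genOf i) = i := by decide

theorem gen_of {i : ℕ} (hi : i < 5) : ∃ g : GG, ((g : Co0) : Spor.Co1) = jEl i ∧ sig g = SuzP.coding.gen i := by
  obtain ⟨g, hg⟩ := lift_mem (el_mem (i := i + 1) (by omega) (by omega))
  refine ⟨g * (g * g), ?_, ?_⟩
  · simp only [Subgroup.coe_mul, QuotientGroup.mk_mul, hg, jEl]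
  · rw [map_mul, map_mul, sig_of_el (g := g) (genOf i) (by rw [hg, (genOf_spec i hi).1]), gen_sq, mul_one,
      ← SuzP.coding.gen_code (genOf i)]
    show SuzP.coding.gen (SuzP.code (genOf i)) = _
    rw [(genOf_spec i hi).2]

theorem JK_le_image : JK ≤ ((grpJ.comap sig).map GG.subtype).map (QuotientGroup.mk' (Subgroup.center Co0)) :=
  (Subgroup.closure_le _).2 fun _ ⟨i, hi, e⟩ => by
    obtain ⟨g, hg, hs⟩ := gen_of hi
    refine ⟨g, ⟨g, ?_, rfl⟩, ?_⟩
    · rw [SetLike.mem_coe, Subgroup.mem_comap, hs]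
      refine Subgroup.subset_closure ⟨i, ?_, rfl⟩
      have : i < 5 := hi
      simp only [Set.mem_ofPred_eq, List.mem_cons, List.not_mem_nil, or_false]
      omega
    · rw [← e]
      exact hg

theorem range_piP : piP.range = grpJ := by
  refine le_antisymm ?_ ((Subgroup.closure_le _).2 ?_)
  · rintro _ ⟨p, rfl⟩
    obtain ⟨_, ⟨g, hg, rfl⟩, e⟩ := JK_le_image (p.2 : ((p : Co0) : Spor.Co1) ∈ JK)
    have h : sig g = piP p := congrArg (fun k : KK => quotEquiv (QuotientGroup.mk' ZK k))
      (show toKK g = toKK (Subgroup.inclusion PP_le p) from Subtype.ext e)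
    rw [← h]
    exact hg
  · rintro _ ⟨i, hi, rfl⟩
    obtain ⟨g, hg, hs⟩ := gen_of (i := i) (by simp at hi; omega)
    exact ⟨⟨g, show ((g : Co0) : Spor.Co1) ∈ JK from hg ▸ Subgroup.subset_closure ⟨i, by simp at hi ⊢; omega, rfl⟩⟩, hs⟩

theorem ker_piP {p : PP} : piP p = 1 ↔ (p : Co0) ∈ Subgroup.center Co0 := by
  rw [show piP p = sig (Subgroup.inclusion PP_le p) from rfl, ← MonoidHom.mem_ker, mem_ker]
  constructor
  · intro h
    change ((p : Co0) : Spor.Co1) ∈ Subgroup.zpowers xb at h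
    rw [← QuotientGroup.eq_one_iff]
    obtain ⟨j, hj⟩ := Subgroup.mem_zpowers_iff.1 h
    have hc := JK_comm p.2
    rw [show (QuotientGroup.mk' (Subgroup.center Co0)) (p : Co0) = ((p : Co0) : Spor.Co1) from rfl, ← hj] at hc
    have h3 : xb ^ (3 : ℤ) = 1 := by
      rw [show ((3 : ℤ)) = ((3 : ℕ) : ℤ) from rfl, zpow_natCast, pow_succ, pow_succ, pow_one, mul_assoc]
      exact xb_cube
    have hj3 : xb ^ j = xb ^ (j % 3) := by
      conv_lhs => rw [← Int.emod_add_mul_ediv j 3, zpow_add, zpow_mul, h3, one_zpow, mul_one]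
    rw [← hj, hj3]
    rw [hj3] at hc
    rcases (by omega : j % 3 = 0 ∨ j % 3 = 1 ∨ j % 3 = 2) with e | e | e <;> rw [e] at hc ⊢
    · exact zpow_zero xb
    · rw [zpow_one] at hc; exact absurd hc xb_not_comm
    · exfalso
      have h2 : Commute (xb ^ (2 : ℤ)) xBar := hc
      have h4 := h2.zpow_left (-1)
      rw [← zpow_mul, show xb ^ ((2 : ℤ) * -1) = xb ^ (1 : ℤ) * (xb ^ (3 : ℤ))⁻¹ by group, h3, inv_one, mul_one,
        zpow_one] at h4
      exact xb_not_comm h4
  · intro h
    show ((p : Co0) : Spor.Co1) ∈ _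
    rw [(QuotientGroup.eq_one_iff _).2 h]
    exact one_mem _

theorem center_le_PP : Subgroup.center Co0 ≤ PP := fun c hc => by
  show ((c : Co0) : Spor.Co1) ∈ JK
  rw [(QuotientGroup.eq_one_iff c).2 hc]
  exact one_mem _

theorem card_PP : Nat.card PP = 1209600 := by
  haveI : Finite Co0 := Suz.finite_Co0
  rw [← piP.ker.card_mul_index, Subgroup.index_ker, range_piP, JTwoG.card_grpJ]
  have e : piP.ker = (Subgroup.center Co0).subgroupOf PP := by
    ext p
    rw [MonoidHom.mem_ker, ker_piP, Subgroup.mem_subgroupOf]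
  rw [e, Nat.card_congr (Subgroup.subgroupOfEquivOfLe center_le_PP).toEquiv, LeechCenter.card_center_Co0]

/-- The Hall-Janko subgroup is simple. -/
theorem simple_grpJ : IsSimpleGroup grpJ := by
  haveI := Icosian.J_simple
  exact ((JTwoG.equivJTwo.trans Icosian.equivJ).isSimpleGroup_congr).2 inferInstance

theorem not_comm_grpJ : ∃ a b : grpJ, a * b ≠ b * a := by
  obtain ⟨a, b, h⟩ := Icosian.J_not_comm
  let e := JTwoG.equivJTwo.trans Icosian.equivJ
  exact ⟨e.symm a, e.symm b, fun h2 => h (e.symm.injective (by rw [map_mul, map_mul]; exact h2))⟩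

theorem x_notMem : x ∉ PP := fun h => by
  haveI := simple_grpJ
  let p : PP := ⟨x, h⟩
  have hmem : piP p ∈ grpJ := range_piP ▸ ⟨p, rfl⟩
  have hc : (⟨piP p, hmem⟩ : grpJ) ∈ Subgroup.center grpJ := Subgroup.mem_center_iff.2 fun j => by
    obtain ⟨q, hq⟩ : (j : Spor.Suz) ∈ piP.range := range_piP.symm ▸ j.2
    refine Subtype.ext ?_
    rw [Subgroup.coe_mul, Subgroup.coe_mul, ← hq, ← map_mul, ← map_mul]
    exact congrArg _ (Subtype.ext (PP_comm q.2).eq)
  rcases (inferInstance : (Subgroup.center grpJ).Normal).eq_bot_or_eq_top with e | e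
  · rw [e, Subgroup.mem_bot] at hc
    exact x_not_center (ker_piP.1 (congrArg Subtype.val hc))
  · obtain ⟨a, b, hab⟩ := not_comm_grpJ
    exact hab (Subgroup.mem_center_iff.1 (e ▸ Subgroup.mem_top b : b ∈ Subgroup.center grpJ) a)

end CfsgLib.Sporadic.JTwoFive
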