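import Cfsg.Agent.Lib.Sporadic.JTwoFive.Upper
import Cfsg.Agent.Lib.Sporadic.JTwoFive.Lower

/-!
The centraliser of the element of order five modulo it and the centre is the Hall-Janko group.
-/

set_option autoImplicit false
set_option maxRecDepth 100000

open Cfsg CfsgLib.SmallGroups CfsgLib.Schur.Sporadic CfsgLib.Sporadic.CosetCert

namespace CfsgLib.Sporadic.JTwoFive

open JTwoG (grpJ)

theorem centralizer_A : Subgroup.centralizer (A : Set Co0) = Subgroup.centralizer {x} := by
  rw [A, Subgroup.zpowers_eq_closure, Subgroup.centralizer_closure]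

/-- The product of the element and the preimage. -/
noncomputable def prodMap : A × PP →* Subgroup.centralizer ({x} : Set Co0) where
  toFun q := ⟨(q.1 : Co0) * q.2, by
    obtain ⟨j, hj⟩ := Subgroup.mem_zpowers_iff.1 q.1.2
    rw [Subgroup.mem_centralizer_singleton_iff, ← hj]
    exact (((Commute.refl x).zpow_left j).mul_left (PP_comm q.2.2)).eq⟩
  map_one' := Subtype.ext (one_mul _)
  map_mul' a b := Subtype.ext (by
    obtain ⟨j, hj⟩ := Subgroup.mem_zpowers_iff.1 b.1.2
    show ((a.1 : Co0) * b.1) * (a.2 * b.2) = (a.1 * a.2) * (b.1 * b.2)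
    have h : Commute (b.1 : Co0) (a.2 : Co0) := hj ▸ ((PP_comm a.2.2).symm.zpow_left j)
    rw [mul_assoc (a.1 : Co0), ← mul_assoc (b.1 : Co0), h.eq]
    simp only [mul_assoc])

theorem A_inf_PP {g : Co0} (h1 : g ∈ A) (h2 : g ∈ PP) : g = 1 := by
  haveI := Suz.finite_Co0
  by_contra hne
  haveI := Fact.mk (show Nat.Prime 5 by norm_num)
  have h : A ⊓ PP = A := by
    rcases (Subgroup.eq_bot_or_eq_top_of_prime_card (H := (A ⊓ PP).subgroupOf A)
      (hp := Fact.mk (card_A ▸ (show Nat.Prime 5 by norm_num)))) with e | e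
    · exfalso
      have : (⟨g, h1⟩ : A) ∈ (A ⊓ PP).subgroupOf A := ⟨h1, h2⟩
      rw [e, Subgroup.mem_bot] at this
      exact hne (congrArg Subtype.val this)
    · exact le_antisymm inf_le_left (Subgroup.subgroupOf_eq_top.1 e)
  exact x_notMem (h.ge (Subgroup.mem_zpowers x : x ∈ A)).2

theorem prodMap_bijective : Function.Bijective prodMap := by
  haveI := Suz.finite_Co0
  have hi : Function.Injective prodMap := by
    rw [← MonoidHom.ker_eq_bot_iff, Subgroup.eq_bot_iff_forall]
    rintro ⟨a, p⟩ h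
    have h' : (a : Co0) * p = 1 := congrArg Subtype.val h
    have ha : (a : Co0) = 1 := A_inf_PP a.2 (by rw [mul_eq_one_iff_eq_inv.1 h']; exact inv_mem p.2)
    rw [ha, one_mul] at h'
    exact Prod.ext (Subtype.ext ha) (Subtype.ext h')
  refine hi.bijective_of_nat_card_le ?_
  rw [Nat.card_prod, card_A, card_PP]
  exact card_centralizer_le

/-- The centraliser as a product. -/
noncomputable def prodEquiv : A × PP ≃* Subgroup.centralizer ({x} : Set Co0) :=
  MulEquiv.ofBijective prodMap prodMap_bijective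

/-- The projection of the centraliser. -/
noncomputable def proj : Subgroup.centralizer ({x} : Set Co0) →* grpJ :=
  ((piP.codRestrict grpJ fun p => range_piP ▸ ⟨p, rfl⟩).comp (MonoidHom.snd A PP)).comp prodEquiv.symm.toMonoidHom

theorem proj_surjective : Function.Surjective proj := by
  intro j
  obtain ⟨p, hp⟩ : (j : Spor.Suz) ∈ piP.range := range_piP.symm ▸ j.2
  refine ⟨prodEquiv (1, p), Subtype.ext ?_⟩
  show piP (prodEquiv.symm (prodEquiv (1, p))).2 = j
  rw [prodEquiv.symm_apply_apply]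
  exact hp

theorem proj_ker : proj.ker = (A ⊔ Subgroup.center Co0).subgroupOf (Subgroup.centralizer {x}) := by
  ext c
  obtain ⟨⟨a, p⟩, rfl⟩ := prodEquiv.surjective c
  have e : proj (prodEquiv (a, p)) = 1 ↔ (p : Co0) ∈ Subgroup.center Co0 := by
    rw [← ker_piP, Subtype.ext_iff]
    show piP (prodEquiv.symm (prodEquiv (a, p))).2 = 1 ↔ _
    rw [prodEquiv.symm_apply_apply]
  rw [MonoidHom.mem_ker, e, Subgroup.mem_subgroupOf]
  show _ ↔ (a : Co0) * p ∈ A ⊔ Subgroup.center Co0
  constructor
  · exact fun h => mul_mem (Subgroup.mem_sup_left a.2) (Subgroup.mem_sup_right h)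
  · intro h
    obtain ⟨b, hb, z, hz, e⟩ := Subgroup.mem_sup_of_normal_right.1 h
    have h1 : (b : Co0)⁻¹ * a = z * (p : Co0)⁻¹ := by
      rw [inv_mul_eq_iff_eq_mul, ← mul_assoc, eq_mul_inv_iff_mul_eq, e]
    have h2 := A_inf_PP (mul_mem (inv_mem hb) a.2) (h1 ▸ mul_mem (center_le_PP hz) (inv_mem p.2))
    rw [h1, mul_inv_eq_one] at h2
    exact h2 ▸ hz

/-- The quotient is the Hall-Janko group on one hundred points. -/
theorem quotient_spec (C : Subgroup Co0) (h : C = Subgroup.centralizer {x}) :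
    ∃ _ : ((A ⊔ Subgroup.center Co0).subgroupOf C).Normal,
      Nonempty (Icosian.J ≃* C ⧸ (A ⊔ Subgroup.center Co0).subgroupOf C) := by
  subst h
  haveI hn : ((A ⊔ Subgroup.center Co0).subgroupOf (Subgroup.centralizer {x})).Normal := proj_ker ▸ inferInstance
  exact ⟨hn, ⟨(JTwoG.equivJTwo.trans Icosian.equivJ).symm.trans
    ((QuotientGroup.quotientKerEquivOfSurjective proj proj_surjective).symm.trans
      (QuotientGroup.quotientMulEquivOfEq proj_ker))⟩⟩

end CfsgLib.Sporadic.JTwoFive
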