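import Cfsg.Agent.Lib.Sporadic.JTwoFive.Defs
import Mathlib.Algebra.BigOperators.Intervals

/-!
The counts with packed sums are the counts over the parameters, and the digits of a packed number.
-/

set_option autoImplicit false
set_option maxRecDepth 10000

namespace CfsgLib.Sporadic.JTwoFive

open CfsgLib.SmallGroups CfsgLib.SmallGroups.Golay CfsgLib.SmallGroups.LeechEnum CfsgLib.SmallGroups.LeechParamCount

attribute [local irreducible] pc enc cw cwOfWeight

/-! ### Sums of selected entries -/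

theorem selSum_eq (T : Tab) (n : ℕ) (L : List ℕ) :
    selSum T n L = (L.map fun l => T.sel (Nat.testBit n l) l).sum := by
  induction L with
  | nil => rfl
  | cons a l ih => rw [selSum, ih, List.map_cons, List.sum_cons]; rfl

theorem selSum_congr (T : Tab) {n m : ℕ} {L : List ℕ} (h : ∀ l ∈ L, n.testBit l = m.testBit l) :
    selSum T n L = selSum T m L := by
  rw [selSum_eq, selSum_eq]
  exact congrArg List.sum (List.map_congr_left fun l hl => by rw [h l hl])

theorem posSum_eq (T : Tab) : ∀ (L : List ℕ) (acc : ℕ), posSum T L acc = acc + selSum T 0 L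
  | [], acc => rfl
  | a :: l, acc => by
    rw [posSum, posSum_eq T l, selSum, Nat.zero_testBit]
    simp only [Tab.sel, cond_false, Nat.add_eq]
    ring

theorem combos_bits : ∀ (L : List ℕ) (k : ℕ), ∀ m ∈ combos L k, ∀ i, m.testBit i = true → i ∈ L
  | [], 0, m, hm, i, hi => by simp [combos] at hm; simp [hm] at hi
  | a :: l, 0, m, hm, i, hi => by simp [combos] at hm; simp [hm] at hi
  | [], k + 1, m, hm, _, _ => by simp [combos] at hm
  | a :: l, k + 1, m, hm, i, hi => by
    simp only [combos, List.mem_append, List.mem_map] at hm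
    rcases hm with hm | ⟨m', hm', rfl⟩
    · exact List.mem_cons_of_mem _ (combos_bits l _ m hm i hi)
    · rw [Nat.testBit_or, Bool.or_eq_true, Nat.testBit_two_pow, decide_eq_true_iff] at hi
      rcases hi with rfl | hi
      · exact List.mem_cons_self
      · exact List.mem_cons_of_mem _ (combos_bits l _ m' hm' i hi)

theorem octK_eq (T : Tab) (leaf : ℕ → Bool) : ∀ (L : List ℕ) (k acc : ℕ), L.Nodup →
    octK T leaf L k acc = (combos L k).countP fun n => leaf (acc + selSum T n L)
  | L, 0, acc, _ => by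
    rw [octK, posSum_eq]
    cases L <;> simp only [combos, List.countP_cons, List.countP_nil] <;>
      cases leaf _ <;> rfl
  | [], k + 1, acc, _ => by simp [octK, combos]
  | a :: l, k + 1, acc, hnd => by
    rw [List.nodup_cons] at hnd
    rw [octK, force_eq, force_eq, octK_eq T leaf l (k + 1) _ hnd.2, octK_eq T leaf l k _ hnd.2, combos,
      List.countP_append, List.countP_map]
    refine congrArg₂ (· + ·) (List.countP_congr fun m hm => ?_) (List.countP_congr fun m hm => ?_)
    · have ha : m.testBit a = false := by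
        by_contra hne
        exact hnd.1 (combos_bits l _ m hm a (by simpa using hne))
      simp only [selSum, Tab.sel, ha, cond_false, Nat.add_eq, Nat.add_assoc]
    · have ha : (2 ^ a ||| m).testBit a = true := by simp
      have hl : selSum T (2 ^ a ||| m) l = selSum T m l := selSum_congr T fun i hi => by
        rw [Nat.testBit_or, Nat.testBit_two_pow, decide_eq_false (fun (e : a = i) => hnd.1 (e ▸ hi)), Bool.false_or]
      simp only [Function.comp_apply, selSum, Tab.sel, ha, cond_true, hl, Nat.add_eq, Nat.add_assoc]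

theorem nib_testBit (c j i : ℕ) (hi : i < 4) :
    ((c / 2 ^ (4 * j) % 16) <<< (4 * j)).testBit (4 * j + i) = c.testBit (4 * j + i) := by
  rw [Nat.testBit_shiftLeft, Nat.add_sub_cancel_left, show (16 : ℕ) = 2 ^ 4 from rfl, Nat.testBit_mod_two_pow,
    Nat.testBit_div_two_pow, Nat.add_comm i]
  simp [hi]

theorem nibSum_eq (T : Tab) (h : T.ok = true) (c : ℕ) : nibSum T c = selSum T c (List.range 24) := by
  simp only [Tab.ok, Bool.and_eq_true, List.all_eq_true, List.mem_range] at h
  obtain ⟨hlen, hok⟩ := h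
  obtain ⟨w, pos, neg, nib⟩ := T
  replace hlen : nib.length = 6 := Nat.eq_of_beq_eq_true hlen
  match nib, hlen with
  | [t0, t1, t2, t3, t4, t5], _ =>
    have key : ∀ j < 6, entry w ([t0, t1, t2, t3, t4, t5].getD j 0) (c / 2 ^ (4 * j) % 16) =
        selSum ⟨w, pos, neg, [t0, t1, t2, t3, t4, t5]⟩ c [4 * j, 4 * j + 1, 4 * j + 2, 4 * j + 3] := by
      intro j hj
      refine (Nat.eq_of_beq_eq_true (hok j hj (c / 2 ^ (4 * j) % 16) (Nat.mod_lt _ (by norm_num)))).trans
        (selSum_congr _ fun l hl => ?_)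
      simp only [List.mem_cons, List.not_mem_nil, or_false] at hl
      show ((c / 2 ^ (4 * j) % 16) <<< (4 * j)).testBit l = _
      rcases hl with rfl | rfl | rfl | rfl
      · exact nib_testBit c j 0 (by norm_num)
      all_goals exact nib_testBit c j _ (by norm_num)
    have k0 := key 0 (by norm_num)
    have k1 := key 1 (by norm_num)
    have k2 := key 2 (by norm_num)
    have k3 := key 3 (by norm_num)
    have k4 := key 4 (by norm_num)
    have k5 := key 5 (by norm_num)
    simp only [List.getD_cons_zero, List.getD_cons_succ, Nat.mul_zero, Nat.zero_add, pow_zero, Nat.div_one,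
      Nat.reduceMul, Nat.reduceAdd, Nat.reducePow] at k0 k1 k2 k3 k4 k5
    show entry w t0 (c % 16) + (entry w t1 (c / 16 % 16) + (entry w t2 (c / 16 / 16 % 16) +
      (entry w t3 (c / 16 / 16 / 16 % 16) + (entry w t4 (c / 16 / 16 / 16 / 16 % 16) +
      (entry w t5 (c / 16 / 16 / 16 / 16 / 16 % 16) + 0))))) = _
    simp only [Nat.div_div_eq_div_mul, Nat.reduceMul]
    rw [k0, k1, k2, k3, k4, k5]
    simp only [show List.range 24 = [0, 1, 2, 3, 4, 5, 6, 7, 8, 9, 10, 11, 12, 13, 14, 15, 16, 17, 18, 19, 20, 21,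
      22, 23] from rfl, selSum, Nat.add_eq]
    omega

/-- The test of the parameters given by the leaves. -/
noncomputable def testOf (T : Tab) (pr : ℕ → ℕ → ℤ → ℤ → Bool) (oc od : ℕ → ℕ → ℕ → Bool) : Test where
  pair := pr
  oct o k n := oc o k (selSum T n (bitsOf o))
  oddPre _ := true
  odd c p := od (nibSum T c) c p

/-- The count in a range of code words, at one octad. -/
noncomputable def octOne (T : Tab) (oc : ℕ → ℕ → ℕ → Bool) (o : ℕ) : ℕ :=
  ([0, 2, 4, 6, 8].map fun k => octK T (oc o k) (bitsOf o) k 0).sum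

theorem octCount_eq (T : Tab) (oc : ℕ → ℕ → ℕ → Bool) (s n : ℕ) :
    octCount T oc s n = ((((cwOfWeight 8).drop s).take n).map (octOne T oc)).sum := rfl

theorem octRest (T : Tab) (oc : ℕ → ℕ → ℕ → Bool) (s n : ℕ) :
    (((cwOfWeight 8).drop s).map (octOne T oc)).sum =
      octCount T oc s n + (((cwOfWeight 8).drop (s + n)).map (octOne T oc)).sum := by
  rw [octCount_eq, ← List.drop_drop, ← List.sum_append, ← List.map_append, List.take_append_drop]

theorem cntOct_eq (T : Tab) (pr : ℕ → ℕ → ℤ → ℤ → Bool) (oc od : ℕ → ℕ → ℕ → Bool) :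
    cntOct (testOf T pr oc od) = (((cwOfWeight 8).drop 0).map (octOne T oc)).sum := by
  simp only [cntOct, List.drop_zero, octOne, testOf]
  refine congrArg List.sum (List.map_congr_left fun o _ => congrArg List.sum (List.map_congr_left fun k _ => ?_))
  rw [octK_eq T (oc o k) (bitsOf o) k 0 (List.nodup_range.filter _)]
  simp only [Nat.zero_add]

/-- The count at one code word. -/
noncomputable def oddOne (T : Tab) (od : ℕ → ℕ → ℕ → Bool) (k : ℕ) : ℕ :=
  (List.range 24).countP fun p => od (nibSum T (enc k)) (enc k) p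

theorem oddFirst (T : Tab) (od : ℕ → ℕ → ℕ → Bool) (s n : ℕ) :
    ((List.range (s + n)).map (oddOne T od)).sum = ((List.range s).map (oddOne T od)).sum + oddCount T od s n := by
  rw [List.range_add, List.map_append, List.sum_append, List.map_map, oddCount]
  refine congrArg (_ + ·) (congrArg List.sum (List.map_congr_left fun k _ => ?_))
  simp only [Function.comp_apply, oddOne, force_eq]

theorem cntOdd_eq (T : Tab) (pr : ℕ → ℕ → ℤ → ℤ → Bool) (oc od : ℕ → ℕ → ℕ → Bool) :
    cntOdd (testOf T pr oc od) = ((List.range 4096).map (oddOne T od)).sum := by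
  simp only [cntOdd, testOf, if_true]
  rfl

theorem cntPair_eq (T : Tab) (pr : ℕ → ℕ → ℤ → ℤ → Bool) (oc od : ℕ → ℕ → ℕ → Bool) :
    cntPair (testOf T pr oc od) = pairCount pr := by
  simp only [pairCount, cntPair, testOf]

/-! ### Packed numbers -/

/-- Pack digits of sixteen binary places. -/
def pk : (ℕ → ℕ) → ℕ → ℕ
  | _, 0 => 0
  | f, n + 1 => f 0 + 65536 * pk (fun i => f (i + 1)) n

theorem pk_congr : ∀ {n : ℕ} {f g : ℕ → ℕ}, (∀ i < n, f i = g i) → pk f n = pk g n
  | 0, _, _, _ => rfl
  | n + 1, f, g, h => by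
    rw [pk, pk, h 0 n.succ_pos, pk_congr fun i hi => h (i + 1) (by omega)]

theorem pk_zero : ∀ n : ℕ, pk (fun _ => 0) n = 0
  | 0 => rfl
  | n + 1 => by rw [pk, pk_zero n]

theorem pk_add : ∀ (n : ℕ) (f g : ℕ → ℕ), pk (fun i => f i + g i) n = pk f n + pk g n
  | 0, _, _ => rfl
  | n + 1, f, g => by
    rw [pk, pk, pk, pk_add n]
    ring

theorem pk_sum (A : Finset ℕ) (F : ℕ → ℕ → ℕ) (n : ℕ) :
    pk (fun i => ∑ l ∈ A, F l i) n = ∑ l ∈ A, pk (F l) n := by
  classical
  induction A using Finset.induction_on with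
  | empty => simp [pk_zero]
  | insert a s ha ih => simp only [Finset.sum_insert ha, pk_add, ih]

theorem pk_lt : ∀ (n : ℕ) (f : ℕ → ℕ), (∀ i < n, f i < 65536) → pk f n < 2 ^ (16 * n)
  | 0, _, _ => by simp [pk]
  | n + 1, f, h => by
    have h1 := pk_lt n (fun i => f (i + 1)) fun i hi => h (i + 1) (by omega)
    have h0 := h 0 n.succ_pos
    rw [pk, show 16 * (n + 1) = 16 + 16 * n by ring, pow_add]
    norm_num
    omega

theorem pk_land : ∀ (n : ℕ) (f g : ℕ → ℕ), (∀ i < n, f i < 65536) → (∀ i < n, g i < 65536) →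
    pk f n &&& pk g n = pk (fun i => f i &&& g i) n
  | 0, _, _, _, _ => by simp [pk]
  | n + 1, f, g, hf, hg => by
    rw [pk, pk, pk, ← pk_land n _ _ (fun i hi => hf (i + 1) (by omega)) fun i hi => hg (i + 1) (by omega)]
    generalize pk (fun i => f (i + 1)) n = a
    generalize pk (fun i => g (i + 1)) n = b
    have h0 := hf 0 n.succ_pos
    have h1 := hg 0 n.succ_pos
    have hm : ((f 0 + 65536 * a) &&& (g 0 + 65536 * b)) % 2 ^ 16 = f 0 &&& g 0 := by
      rw [Nat.and_mod_two_pow]
      norm_num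
      rw [Nat.mod_eq_of_lt h0, Nat.mod_eq_of_lt h1]
    have hd : ((f 0 + 65536 * a) &&& (g 0 + 65536 * b)) / 2 ^ 16 = a &&& b := by
      rw [Nat.and_div_two_pow]
      norm_num
      rw [Nat.add_mul_div_left _ _ (by norm_num), Nat.add_mul_div_left _ _ (by norm_num), Nat.div_eq_of_lt h0,
        Nat.div_eq_of_lt h1, Nat.zero_add, Nat.zero_add]
    have := Nat.mod_add_div ((f 0 + 65536 * a) &&& (g 0 + 65536 * b)) (2 ^ 16)
    rw [hm, hd] at this
    exact this.symm.trans (by norm_num)

theorem pk_mod : ∀ (n : ℕ) (f : ℕ → ℕ), pk f n % 65535 = (∑ i ∈ Finset.range n, f i) % 65535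
  | 0, _ => by simp [pk]
  | n + 1, f => by
    have h := pk_mod n fun i => f (i + 1)
    rw [pk, Finset.sum_range_succ']
    generalize pk (fun i => f (i + 1)) n = a at h ⊢
    generalize (∑ i ∈ Finset.range n, f (i + 1)) = b at h ⊢
    omega

theorem pk_entry : ∀ (n : ℕ) (f : ℕ → ℕ) (p : ℕ), p < n → (∀ i < n, f i < 65536) →
    pk f n / 2 ^ (16 * p) % 2 ^ 16 = f p
  | 0, _, p, hp, _ => absurd hp p.not_lt_zero
  | n + 1, f, 0, _, h => by
    have h0 := h 0 n.succ_pos
    rw [pk]
    norm_num
    omega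
  | n + 1, f, p + 1, hp, h => by
    have h0 := h 0 n.succ_pos
    rw [pk, show 16 * (p + 1) = 16 + 16 * p by ring, pow_add, ← Nat.div_div_eq_div_mul]
    rw [show (f 0 + 65536 * pk (fun i => f (i + 1)) n) / 2 ^ 16 = pk (fun i => f (i + 1)) n by norm_num; omega]
    exact pk_entry n _ p (by omega) fun i hi => h (i + 1) (by omega)

theorem land_low (a b m : ℕ) (N : ℕ) (ha : a < 2 ^ N) (hm : m < 2 ^ N) : (a + 2 ^ N * b) &&& m = a &&& m := by
  have h : ((a + 2 ^ N * b) &&& m) % 2 ^ N = a &&& m := by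
    rw [Nat.and_mod_two_pow, Nat.add_mul_mod_self_left, Nat.mod_eq_of_lt ha, Nat.mod_eq_of_lt hm]
  rwa [Nat.mod_eq_of_lt (lt_of_le_of_lt Nat.and_le_right hm)] at h

theorem digits_pk (G H M : ℕ → ℕ) (hG : ∀ i < 24, G i < 65536) (hM : ∀ i < 24, M i < 65536) :
    ((pk G 24 + 2 ^ 384 * pk H 24) &&& pk M 24) % 65535 = (∑ i ∈ Finset.range 24, (G i &&& M i)) % 65535 := by
  rw [land_low _ _ _ 384 (pk_lt 24 G hG) (pk_lt 24 M hM), pk_land 24 G M hG hM, pk_mod]

end CfsgLib.Sporadic.JTwoFive
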