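import Cfsg.Agent.Lib.Sporadic.JTwoFive.Packed

/-!
Vectors with the inner product -16 with their image, and vectors with given inner products, pass the
packed tests.
-/

set_option autoImplicit false
set_option maxRecDepth 100000
set_option exponentiation.threshold 1024

namespace CfsgLib.Sporadic.JTwoFive

open Cfsg CfsgLib.SmallGroups CfsgLib.SmallGroups.Golay CfsgLib.SmallGroups.GolayOctads
  CfsgLib.SmallGroups.LeechEnum CfsgLib.SmallGroups.LeechParamCount

attribute [local irreducible] pc enc cw cwOfWeight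

theorem beq_true {a b : ℕ} (h : a = b) : Nat.beq a b = true := by subst h; exact Nat.beq_refl _

theorem digits_eq (a m : ℕ) : digits a m = (a &&& m) % 65535 := rfl

theorem entry_eq (w t l : ℕ) : entry w t l = t / 2 ^ (w * l) % 2 ^ w := by
  rw [← Nat.shiftRight_eq_div_pow]
  rfl

/-- An entry of the symmetrised matrix. -/
def sM (l m : ℕ) : ℤ := mE l m + mE m l

theorem sM_comm (l m : ℕ) : sM l m = sM m l := add_comm _ _

/-- The sign of a place. -/
def sg (n l : ℕ) : ℤ := if n.testBit l then -1 else 1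

theorem sg_sq (n l : ℕ) : sg n l * sg n l = 1 := by unfold sg; split <;> rfl

/-- The quadratic form of a coordinate function. -/
def qf (f : ℕ → ℤ) : ℤ := ∑ l ∈ Finset.range 24, ∑ m ∈ Finset.range 24, f l * f m * mE m l

theorem two_qf (f : ℕ → ℤ) :
    2 * qf f = ∑ l ∈ Finset.range 24, ∑ m ∈ Finset.range 24, f l * f m * sM l m := by
  have e : qf f = ∑ l ∈ Finset.range 24, ∑ m ∈ Finset.range 24, f l * f m * mE l m := by
    rw [qf, Finset.sum_comm]
    exact Finset.sum_congr rfl fun l _ => Finset.sum_congr rfl fun m _ => by ring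
  simp only [sM, mul_add, Finset.sum_add_distrib]
  rw [two_mul]
  nth_rewrite 1 [e]
  rfl

theorem idx_sum (f : ℕ → ℤ) : ∑ q : GolayPt, f (idx q) = ∑ l ∈ Finset.range 24, f l :=
  Finset.sum_bij (fun q _ => idx q) (fun q _ => Finset.mem_range.2 (idx_lt q))
    (fun _ _ _ _ e => idx_injective e)
    (fun l hl => ⟨pt l, Finset.mem_univ _, idx_pt (Finset.mem_range.1 hl)⟩) fun _ _ => rfl

/-- The property tested first. -/
def PQ (v : GolayPt → ℤ) : Prop := ∑ p, v p * ∑ q, v q * mE (idx q) (idx p) = -128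

/-- The property tested at a step. -/
def PD (k : ℕ) (v : GolayPt → ℤ) : Prop := ∀ e ∈ conds k, ∑ p, v p * (vec e.1).getD (idx p) 0 = e.2

theorem qf_of {f : ℕ → ℤ} (h : PQ (ofPos f)) : qf f = -128 := by
  rw [← h, qf, ← idx_sum]
  refine Finset.sum_congr rfl fun p _ => ?_
  rw [← idx_sum, Finset.mul_sum]
  exact Finset.sum_congr rfl fun q _ => by simp only [ofPos]; ring

theorem dot_of {k : ℕ} {f : ℕ → ℤ} (h : PD k (ofPos f)) {e : ℕ × ℤ} (he : e ∈ conds k) :
    ∑ l ∈ Finset.range 24, f l * (vec e.1).getD l 0 = e.2 := by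
  rw [← h e he, ← idx_sum]
  rfl

theorem sum_pair {i j : ℕ} (hi : i < 24) (hj : j < 24) (hij : i ≠ j) (a b : ℤ) (u : ℕ → ℤ) :
    ∑ l ∈ Finset.range 24, pairF i j a b l * u l = a * u i + b * u j := by
  rw [← Finset.sum_subset (s₁ := ({i, j} : Finset ℕ)) (by
      intro l hl
      simp only [Finset.mem_insert, Finset.mem_singleton] at hl
      rcases hl with rfl | rfl <;> exact Finset.mem_range.2 (by assumption)) fun l _ hl => by
      simp only [Finset.mem_insert, Finset.mem_singleton, not_or] at hl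
      simp [pairF, hl.1, hl.2],
    Finset.sum_pair hij]
  simp [pairF, hij.symm]

theorem pairQ_sound {i j : ℕ} (hi : i < 24) (hj : j < 24) (hij : i ≠ j) {a b : ℤ}
    (h : PQ (ofPos (pairF i j a b))) : pairQ i j a b = true := by
  have e := qf_of h
  simp only [qf, mul_assoc, ← Finset.mul_sum, sum_pair hi hj hij] at e
  simp only [pairQ, beq_iff_eq]
  linarith

theorem pairD_sound {k i j : ℕ} (hi : i < 24) (hj : j < 24) (hij : i ≠ j) {a b : ℤ}
    (h : PD k (ofPos (pairF i j a b))) : pairD k i j a b = true := by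
  rw [pairD, List.all_eq_true]
  intro e he
  rw [beq_iff_eq, ← dot_of h he, sum_pair hi hj hij]

/-! ### Octads -/

/-- The places of an octad. -/
def oset (o : ℕ) : Finset ℕ := (bitsOf o).toFinset

theorem mem_oset {o l : ℕ} : l ∈ oset o ↔ l < 24 ∧ o.testBit l = true := by
  simp [oset, bitsOf]

theorem oset_sub (o : ℕ) : oset o ⊆ Finset.range 24 := fun _ hl => Finset.mem_range.2 (mem_oset.1 hl).1

theorem bit_sum (o : ℕ) : (∑ l ∈ Finset.range 24, if o.testBit l then (1 : ℤ) else 0) = (pc o : ℤ) := by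
  rw [← sum_bits o]
  exact (idx_sum fun l => if o.testBit l then (1 : ℤ) else 0).symm

theorem card_oset (o : ℕ) : ((oset o).card : ℤ) = (pc o : ℤ) := by
  rw [← bit_sum, Finset.sum_boole]
  congr 2
  ext l
  simp [mem_oset]

theorem octF_eq (o n : ℕ) {l : ℕ} (hl : l ∈ Finset.range 24) :
    octF o n l = if l ∈ oset o then 2 * sg n l else 0 := by
  have hl' := Finset.mem_range.1 hl
  simp only [octF, sg, mem_oset, hl', true_and]
  cases o.testBit l <;> cases n.testBit l <;> simp

theorem oct_sum (o n : ℕ) (u : ℕ → ℤ) :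
    ∑ l ∈ Finset.range 24, octF o n l * u l = 2 * ∑ l ∈ oset o, sg n l * u l := by
  rw [Finset.mul_sum, ← Finset.inter_eq_right.2 (oset_sub o), ← Finset.sum_ite_mem]
  exact Finset.sum_congr rfl fun l hl => by rw [octF_eq o n hl]; split <;> ring

theorem sg_sum {o n : ℕ} (ho : pc o = 8) (hsub : toSet n ⊆ toSet o) :
    ∑ l ∈ oset o, sg n l = 8 - 2 * (pc n : ℤ) := by
  have e : ∀ l ∈ oset o, sg n l = 1 - 2 * (if n.testBit l then (1 : ℤ) else 0) := fun l _ => by
    unfold sg; split <;> norm_num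
  rw [Finset.sum_congr rfl e, Finset.sum_sub_distrib, ← Finset.mul_sum, Finset.sum_const, nsmul_one, card_oset, ho]
  congr 2
  rw [← bit_sum, Finset.sum_subset (oset_sub o)]
  intro l hl hno
  rw [if_neg]
  intro hn
  have hl' := Finset.mem_range.1 hl
  have : pt l ∈ toSet o := hsub (mem_toSet.2 (by rwa [idx_pt hl']))
  rw [mem_toSet, idx_pt hl'] at this
  exact hno (mem_oset.2 ⟨hl', this⟩)

theorem selSum_set (T : Tab) (n : ℕ) {L : List ℕ} (hL : L.Nodup) :
    selSum T n L = ∑ l ∈ L.toFinset, T.sel (n.testBit l) l := by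
  rw [selSum_eq, List.sum_toFinset _ hL]

theorem selSum_oct (T : Tab) (n o : ℕ) : selSum T n (bitsOf o) = ∑ l ∈ oset o, T.sel (n.testBit l) l :=
  selSum_set T n (List.nodup_range.filter _)

theorem selSum_all (T : Tab) (c : ℕ) :
    selSum T c (List.range 24) = ∑ l ∈ Finset.range 24, T.sel (c.testBit l) l := by
  rw [selSum_set T c List.nodup_range, List.toFinset_range]

/-! ### The tables for the form -/

/-- A digit of a signed row. -/
def dig16 (b : Bool) (l m : ℕ) : ℕ := (16 + (if b then -1 else 1) * sM l m).toNat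

/-- The mark of a plus sign. -/
def plusMark (b : Bool) (l m : ℕ) : ℕ := if b = false ∧ m = l then 65535 else 0

theorem tabQ_ok : (tabQ.ok = true ∧ tabQ.w = 768) ∧
    ∀ l : Fin 24, ∀ b : Bool, tabQ.sel b l.1 = pk (dig16 b l.1) 24 + 2 ^ 384 * pk (plusMark b l.1) 24 := by
  decide +kernel

theorem sM_bound : ∀ l m : Fin 24, -16 ≤ sM l.1 m.1 ∧ sM l.1 m.1 ≤ 16 := by decide +kernel

theorem diag_ok : ∀ p : Fin 24, entry 16 diagK p.1 = (16 + sM p.1 p.1).toNat := by decide +kernel

theorem lowMask_eq : lowMask = pk (fun _ => 65535) 24 ∧ onesK = pk (fun _ => 1) 24 := by decide +kernel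

/-- The digits of a sum of signed rows. -/
def rowG (A : Finset ℕ) (n m : ℕ) : ℕ := ∑ l ∈ A, dig16 (n.testBit l) l m

/-- The marks of the plus signs. -/
def rowH (A : Finset ℕ) (n m : ℕ) : ℕ := ∑ l ∈ A, plusMark (n.testBit l) l m

theorem rowH_eq (A : Finset ℕ) (n m : ℕ) : rowH A n m = if m ∈ A ∧ n.testBit m = false then 65535 else 0 := by
  rw [rowH]
  by_cases hm : m ∈ A
  · rw [Finset.sum_eq_single m (fun l _ h => by simp [plusMark, Ne.symm h]) fun h => absurd hm h]
    simp [plusMark, hm]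
  · rw [Finset.sum_eq_zero fun l hl => ?_, if_neg fun e => hm e.1]
    have h : m ≠ l := fun e => hm (e ▸ hl)
    simp [plusMark, h]

theorem rowG_val {A : Finset ℕ} (hA : A ⊆ Finset.range 24) (n : ℕ) {m : ℕ} (hm : m < 24) :
    (rowG A n m : ℤ) = 16 * (A.card : ℤ) + ∑ l ∈ A, sg n l * sM l m ∧ rowG A n m ≤ 768 := by
  have h : ∀ l ∈ A, (dig16 (n.testBit l) l m : ℤ) = 16 + sg n l * sM l m ∧ dig16 (n.testBit l) l m ≤ 32 := by
    intro l hl
    obtain ⟨h1, h2⟩ := sM_bound ⟨l, Finset.mem_range.1 (hA hl)⟩ ⟨m, hm⟩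
    simp only [dig16, sg] at h1 h2 ⊢
    cases n.testBit l <;> simp <;> omega
  constructor
  · rw [rowG, Nat.cast_sum, Finset.sum_congr rfl fun l hl => (h l hl).1, Finset.sum_add_distrib, Finset.sum_const,
      nsmul_eq_mul, mul_comm]
  · refine (Finset.sum_le_card_nsmul A _ 32 fun l hl => (h l hl).2).trans ?_
    have := Finset.card_le_card hA
    rw [Finset.card_range] at this
    rw [nsmul_eq_mul, Nat.cast_id]
    omega

theorem sumQ {A : Finset ℕ} (hA : A ⊆ Finset.range 24) (n : ℕ) :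
    ∑ l ∈ A, tabQ.sel (n.testBit l) l = pk (rowG A n) 24 + 2 ^ 384 * pk (rowH A n) 24 := by
  rw [show rowG A n = fun m => ∑ l ∈ A, dig16 (n.testBit l) l m from rfl,
    show rowH A n = fun m => ∑ l ∈ A, plusMark (n.testBit l) l m from rfl, pk_sum, pk_sum, Finset.mul_sum,
    ← Finset.sum_add_distrib]
  exact Finset.sum_congr rfl fun l hl => tabQ_ok.2 ⟨l, Finset.mem_range.1 (hA hl)⟩ _

theorem rowG_lt {A : Finset ℕ} (hA : A ⊆ Finset.range 24) (n : ℕ) : ∀ m < 24, rowG A n m < 65536 := fun m hm => by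
  have := (rowG_val hA n hm).2
  omega

theorem high_pk {A : Finset ℕ} (hA : A ⊆ Finset.range 24) (n : ℕ) :
    Nat.shiftRight (pk (rowG A n) 24 + 2 ^ 384 * pk (rowH A n) 24) 384 = pk (rowH A n) 24 := by
  rw [Nat.shiftRight_eq, Nat.shiftRight_eq_div_pow, Nat.add_mul_div_left _ _ (by norm_num),
    Nat.div_eq_of_lt (pk_lt 24 _ (rowG_lt hA n)), Nat.zero_add]

theorem digits_mask {A : Finset ℕ} (hA : A ⊆ Finset.range 24) (n : ℕ) (S : ℕ → Prop) [DecidablePred S] :
    (digits (pk (rowG A n) 24 + 2 ^ 384 * pk (rowH A n) 24) (pk (fun m => if S m then 65535 else 0) 24) : ℤ) =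
      ∑ m ∈ Finset.range 24, if S m then 16 * (A.card : ℤ) + ∑ l ∈ A, sg n l * sM l m else 0 := by
  rw [digits_eq, digits_pk _ _ _ (rowG_lt hA n) (fun m _ => by split <;> norm_num), Nat.mod_eq_of_lt, Nat.cast_sum]
  · refine Finset.sum_congr rfl fun m hm => ?_
    have hlt := rowG_lt hA n m (Finset.mem_range.1 hm)
    split
    · rw [show (65535 : ℕ) = 2 ^ 16 - 1 from rfl, Nat.and_two_pow_sub_one_eq_mod, Nat.mod_eq_of_lt hlt,
        (rowG_val hA n (Finset.mem_range.1 hm)).1]
    · simp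
  · refine lt_of_le_of_lt (Finset.sum_le_card_nsmul _ _ 768 fun m hm => ?_) (by norm_num)
    exact le_trans Nat.and_le_left (rowG_val hA n (Finset.mem_range.1 hm)).2

theorem digits_ones {A : Finset ℕ} (hA : A ⊆ Finset.range 24) (n : ℕ) :
    (digits (pk (rowH A n) 24) onesK : ℤ) = ∑ m ∈ A, if n.testBit m then 0 else 1 := by
  rw [digits_eq, lowMask_eq.2, pk_land 24 _ _ (fun m _ => by rw [rowH_eq]; split <;> norm_num) (fun _ _ => by norm_num), pk_mod,
    Nat.mod_eq_of_lt, Nat.cast_sum, ← Finset.sum_subset hA]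
  · refine Finset.sum_congr rfl fun m hm => ?_
    rw [rowH_eq]
    cases h2 : n.testBit m <;> simp [hm]
  · intro m _ hm
    rw [rowH_eq]
    simp [hm]
  · refine lt_of_le_of_lt (Finset.sum_le_card_nsmul _ _ 1 fun m _ => Nat.and_le_right) (by norm_num)

theorem octQ_sound {o n k : ℕ} (ho : o ∈ cwOfWeight 8) (hsub : toSet n ⊆ toSet o) (hk : pc n = k)
    (h : PQ (ofPos (octF o n))) : octLeafQ o k (selSum tabQ n (bitsOf o)) = true := by
  have h8 : pc o = 8 := (mem_cwOfWeight.1 ho).2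
  have hA := oset_sub o
  have e := two_qf (octF o n)
  rw [qf_of h] at e
  simp only [mul_assoc, ← Finset.mul_sum] at e
  rw [oct_sum o n] at e
  simp only [oct_sum o n] at e
  rw [octLeafQ, force_eq, posSum_eq, Nat.zero_add, selSum_oct, selSum_oct, sumQ hA, sumQ hA, high_pk hA, high_pk hA]
  refine beq_true ?_
  simp only [Nat.mul_eq, Nat.add_eq]
  have hP : rowH (oset o) n = fun m => if m ∈ oset o ∧ n.testBit m = false then 65535 else 0 :=
    funext (rowH_eq _ _)
  have hO : rowH (oset o) 0 = fun m => if m ∈ oset o then 65535 else 0 :=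
    funext fun m => by rw [rowH_eq]; simp
  have d1 := digits_mask hA n (fun m => m ∈ oset o ∧ n.testBit m = false)
  have d2 := digits_mask hA n (fun m => m ∈ oset o)
  rw [← hP] at d1
  rw [← hO] at d2
  generalize digits (pk (rowG (oset o) n) 24 + 2 ^ 384 * pk (rowH (oset o) n) 24) (pk (rowH (oset o) n) 24) = P at d1 ⊢
  generalize digits (pk (rowG (oset o) n) 24 + 2 ^ 384 * pk (rowH (oset o) n) 24) (pk (rowH (oset o) 0) 24) = L at d2 ⊢
  rw [← Int.ofNat_inj]
  push_cast
  rw [d1, d2]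
  simp only [Finset.sum_ite_mem, Finset.inter_eq_right.2 hA, ite_and]
  have hc : ((oset o).card : ℤ) = 8 := by rw [card_oset, h8]; rfl
  have hs := sg_sum h8 hsub
  rw [hc]
  have key : 2 * ∑ m ∈ oset o, (if n.testBit m = false then 16 * (8 : ℤ) + ∑ l ∈ oset o, sg n l * sM l m else 0) -
      ∑ m ∈ oset o, (16 * (8 : ℤ) + ∑ l ∈ oset o, sg n l * sM l m) =
      128 * ∑ m ∈ oset o, sg n m + ∑ m ∈ oset o, sg n m * ∑ l ∈ oset o, sg n l * sM l m := by
    rw [Finset.mul_sum, Finset.mul_sum, ← Finset.sum_sub_distrib, ← Finset.sum_add_distrib]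
    refine Finset.sum_congr rfl fun m _ => ?_
    cases hm : n.testBit m <;> simp [sg, hm] <;> ring
  have hq : ∑ m ∈ oset o, sg n m * ∑ l ∈ oset o, sg n l * sM l m =
      ∑ m ∈ oset o, sg n m * ∑ l ∈ oset o, sg n l * sM m l := by
    simp only [sM_comm]
  rw [hs, hk, hq] at key
  have e2 : ∑ x ∈ oset o, sg n x * (2 * ∑ l ∈ oset o, sg n l * sM x l) =
      2 * ∑ x ∈ oset o, sg n x * ∑ l ∈ oset o, sg n l * sM x l := by
    rw [Finset.mul_sum]
    exact Finset.sum_congr rfl fun x _ => by ring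
  rw [e2] at e
  linarith

theorem oddF_eq (c p l : ℕ) : oddF c p l = sg c l - 4 * if l = p then sg c p else 0 := by
  by_cases h : l = p
  · subst h; simp [oddF, sg]; split <;> norm_num
  · simp [oddF, sg, h]

theorem odd_sum (c : ℕ) {p : ℕ} (hp : p < 24) (u : ℕ → ℤ) :
    ∑ l ∈ Finset.range 24, oddF c p l * u l = (∑ l ∈ Finset.range 24, sg c l * u l) - 4 * (sg c p * u p) := by
  simp only [oddF_eq, sub_mul, Finset.sum_sub_distrib, mul_assoc, ite_mul, zero_mul, ← Finset.mul_sum,
    Finset.sum_ite_eq', Finset.mem_range, hp, if_true]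

theorem oddQ_sound {c p : ℕ} (hp : p < 24) (h : PQ (ofPos (oddF c p))) :
    oddLeafQ (nibSum tabQ c) c p = true := by
  have hA : Finset.range 24 ⊆ Finset.range 24 := Finset.Subset.refl _
  have e := two_qf (oddF c p)
  rw [qf_of h] at e
  simp only [mul_assoc, ← Finset.mul_sum] at e
  simp only [odd_sum c hp] at e
  simp only [mul_sub, Finset.sum_sub_distrib, Finset.mul_sum] at e
  simp only [← Finset.mul_sum] at e
  have h4 : ∑ l ∈ Finset.range 24, sg c l * sM l p = ∑ l ∈ Finset.range 24, sg c l * sM p l := by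
    simp only [sM_comm]
  rw [nibSum_eq tabQ tabQ_ok.1.1, selSum_all, sumQ hA, oddLeafQ, force_eq, force_eq, force_eq]
  have hR := (rowG_val hA c hp).1
  have hE : entry 16 (pk (rowG (Finset.range 24) c) 24 + 2 ^ 384 * pk (rowH (Finset.range 24) c) 24) p =
      rowG (Finset.range 24) c p := by
    rw [entry_eq,
      show 2 ^ 384 = 2 ^ (16 * p) * 2 ^ (384 - 16 * p) by rw [← pow_add]; congr 1; omega, mul_assoc,
      Nat.add_mul_div_left _ _ (by positivity),
      show 384 - 16 * p = 16 + (368 - 16 * p) by omega, pow_add, mul_assoc, Nat.add_mul_mod_self_left]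
    exact pk_entry 24 _ p hp (rowG_lt hA c)
  have hD : (entry 16 diagK p : ℤ) = 16 + sM p p := by
    rw [diag_ok ⟨p, hp⟩, Int.toNat_of_nonneg]
    linarith [(sM_bound ⟨p, hp⟩ ⟨p, hp⟩).1]
  have hP : rowH (Finset.range 24) c = fun m => if m ∈ Finset.range 24 ∧ c.testBit m = false then 65535 else 0 :=
    funext (rowH_eq _ _)
  have d1 := digits_mask hA c (fun m => m ∈ Finset.range 24 ∧ c.testBit m = false)
  rw [← hP] at d1
  have d2 := digits_mask hA c (fun _ => True)
  simp only [if_true] at d2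
  rw [← lowMask_eq.1] at d2
  have d3 := digits_ones hA c
  have e1 : ∀ f : ℕ → ℤ, (∑ m ∈ Finset.range 24, if m ∈ Finset.range 24 ∧ c.testBit m = false then f m else 0) =
      ∑ m ∈ Finset.range 24, if c.testBit m = false then f m else 0 := fun f =>
    Finset.sum_congr rfl fun m hm => by simp only [hm, true_and]
  rw [e1, Finset.card_range] at d1
  rw [Finset.card_range] at d2 hR
  simp only [high_pk hA, hE]
  generalize digits _ (pk (rowH (Finset.range 24) c) 24) = P at d1 ⊢
  generalize digits _ lowMask = L at d2 ⊢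
  generalize digits (pk (rowH (Finset.range 24) c) 24) onesK = N at d3 ⊢
  generalize entry 16 diagK p = D at hD ⊢
  generalize rowG (Finset.range 24) c p = R at hR ⊢
  have key : 2 * (P : ℤ) - L + 384 * 24 - 768 * N =
      ∑ m ∈ Finset.range 24, sg c m * ∑ l ∈ Finset.range 24, sg c l * sM l m := by
    rw [d1, d2, d3, Finset.mul_sum, ← Finset.sum_sub_distrib, Finset.mul_sum,
      show ((384 : ℤ) * 24) = ∑ _m ∈ Finset.range 24, (384 : ℤ) by simp, ← Finset.sum_add_distrib,
      ← Finset.sum_sub_distrib]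
    refine Finset.sum_congr rfl fun m _ => ?_
    cases hm : c.testBit m <;> simp [sg, hm] <;> ring
  have hq : ∑ m ∈ Finset.range 24, sg c m * ∑ l ∈ Finset.range 24, sg c l * sM l m =
      ∑ m ∈ Finset.range 24, sg c m * ∑ l ∈ Finset.range 24, sg c l * sM m l := by
    simp only [sM_comm]
  rw [h4] at hR
  have e2 : ∑ x ∈ Finset.range 24, sg c x * (4 * (sg c p * sM x p)) =
      4 * sg c p * ∑ l ∈ Finset.range 24, sg c l * sM p l := by
    rw [← h4, Finset.mul_sum]
    exact Finset.sum_congr rfl fun x _ => by ring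
  rw [e2] at e
  simp only [Nat.cast_ofNat] at hR
  cases hb : c.testBit p
  · simp only [sg, hb, Bool.false_eq_true, if_false] at e hR key hq
    rw [cond_false]
    refine beq_true ?_
    simp only [Nat.mul_eq, Nat.add_eq]
    zify
    simp only [sg] at *
    linarith
  · simp only [sg, hb, if_true] at e hR key hq
    rw [cond_true]
    refine beq_true ?_
    simp only [Nat.mul_eq, Nat.add_eq]
    zify
    simp only [sg] at *
    linarith

/-! ### The tables for the steps -/

/-- A value at each inner product, packed. -/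
def enc16 : List (ℕ × ℤ) → (ℕ × ℤ → ℤ) → ℤ
  | [], _ => 0
  | e :: es, g => g e + 65536 * enc16 es g

theorem enc16_congr : ∀ {cs : List (ℕ × ℤ)} {g g' : ℕ × ℤ → ℤ}, (∀ e ∈ cs, g e = g' e) → enc16 cs g = enc16 cs g'
  | [], _, _, _ => rfl
  | e :: es, g, g', h => by
    rw [enc16, enc16, h e List.mem_cons_self, enc16_congr fun x hx => h x (List.mem_cons_of_mem _ hx)]

theorem enc16_sum : ∀ (cs : List (ℕ × ℤ)) (A : Finset ℕ) (g : ℕ → ℕ × ℤ → ℤ),
    ∑ l ∈ A, enc16 cs (g l) = enc16 cs fun e => ∑ l ∈ A, g l e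
  | [], A, g => by simp [enc16]
  | e :: es, A, g => by
    simp only [enc16, Finset.sum_add_distrib, ← Finset.mul_sum, enc16_sum es]

theorem enc16_two : ∀ (cs : List (ℕ × ℤ)) (g : ℕ × ℤ → ℤ), 2 * enc16 cs g = enc16 cs fun e => 2 * g e
  | [], _ => rfl
  | e :: es, g => by rw [enc16, enc16, ← enc16_two es]; ring

theorem tabD_ok : ∀ k < 5, (dTab k).ok = true ∧
    (∀ l : Fin 24, ∀ b : Bool, ((dTab k).sel b l.1 : ℤ) =
      enc16 (conds k) fun e => 16 + (if b then -1 else 1) * (vec e.1).getD l.1 0) ∧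
    (2 * (tgtO.getD k 0 : ℤ) = enc16 (conds k) fun e => 256 + e.2) ∧
    ∀ p : Fin 24,
      ((entry (dTab k).w (tgtP.getD k 0) p.1 : ℤ) = enc16 (conds k) fun e => 384 + e.2 + 4 * (vec e.1).getD p.1 0) ∧
      ((entry (dTab k).w (tgtN.getD k 0) p.1 : ℤ) = enc16 (conds k) fun e => 384 + e.2 - 4 * (vec e.1).getD p.1 0) := by
  decide +kernel

theorem sumD {k : ℕ} (hk : k < 5) {A : Finset ℕ} (hA : A ⊆ Finset.range 24) (n : ℕ) :
    ((∑ l ∈ A, (dTab k).sel (n.testBit l) l : ℕ) : ℤ) =
      enc16 (conds k) fun e => 16 * (A.card : ℤ) + ∑ l ∈ A, sg n l * (vec e.1).getD l 0 := by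
  rw [Nat.cast_sum, Finset.sum_congr rfl
    (g := fun l => enc16 (conds k) fun e => 16 + (if n.testBit l then -1 else 1) * (vec e.1).getD l 0)
    fun l hl => (tabD_ok k hk).2.1 ⟨l, Finset.mem_range.1 (hA hl)⟩ (n.testBit l), enc16_sum]
  refine enc16_congr fun e _ => ?_
  rw [Finset.sum_add_distrib, Finset.sum_const, nsmul_eq_mul, mul_comm]
  rfl

theorem octD_sound {k o n : ℕ} (hk : k < 5) (ho : o ∈ cwOfWeight 8) (h : PD k (ofPos (octF o n))) (j : ℕ) :
    octLeafD k o j (selSum (dTab k) n (bitsOf o)) = true := by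
  refine beq_true ?_
  have hc : ((oset o).card : ℤ) = 8 := by rw [card_oset, (mem_cwOfWeight.1 ho).2]; rfl
  have e : 2 * (selSum (dTab k) n (bitsOf o) : ℤ) = 2 * (tgtO.getD k 0 : ℤ) := by
    rw [selSum_oct, sumD hk (oset_sub o), (tabD_ok k hk).2.2.1, enc16_two, hc]
    refine enc16_congr fun e he => ?_
    rw [← dot_of h he, oct_sum]
    ring
  omega

theorem oddD_sound {k c p : ℕ} (hk : k < 5) (hp : p < 24) (h : PD k (ofPos (oddF c p))) :
    oddLeafD k (nibSum (dTab k) c) c p = true := by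
  refine beq_true ?_
  obtain ⟨hok, -, -, ht⟩ := tabD_ok k hk
  rw [← Int.ofNat_inj, nibSum_eq _ hok, selSum_all, sumD hk (Finset.Subset.refl _), Finset.card_range]
  cases hb : c.testBit p
  · rw [cond_false, (ht ⟨p, hp⟩).1]
    refine enc16_congr fun e he => ?_
    rw [← dot_of h he, odd_sum c hp, show sg c p = 1 by simp [sg, hb]]
    simp only [Nat.cast_ofNat]
    ring
  · rw [cond_true, (ht ⟨p, hp⟩).2]
    refine enc16_congr fun e he => ?_
    rw [← dot_of h he, odd_sum c hp, show sg c p = -1 by simp [sg, hb]]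
    simp only [Nat.cast_ofNat]
    ring

/-- The first test. -/
noncomputable def testQ : Test := testOf tabQ pairQ octLeafQ oddLeafQ

/-- The test of a step. -/
noncomputable def testD (k : ℕ) : Test := testOf (dTab k) (pairD k) (octLeafD k) (oddLeafD k)

theorem soundQ : Sound testQ PQ :=
  ⟨fun _ _ _ _ hi hj hij h => pairQ_sound hi hj hij h, fun _ _ _ ho hsub hk h => octQ_sound ho hsub hk h,
    fun _ _ hp h => ⟨rfl, oddQ_sound hp h⟩⟩

theorem soundD {k : ℕ} (hk : k < 5) : Sound (testD k) (PD k) :=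
  ⟨fun _ _ _ _ hi hj hij h => pairD_sound hi hj hij h, fun _ _ j ho _ _ h => octD_sound hk ho h j,
    fun _ _ hp h => ⟨rfl, oddD_sound hk hp h⟩⟩

end CfsgLib.Sporadic.JTwoFive
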