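import Cfsg.Agent.Lib.Sporadic.Icosian.Centralizer
import Cfsg.Agent.Lib.Characterizations.HallJanko.Basic
import Cfsg.Agent.Lib.Components.GenFitting

/-!
The Hall-Janko group has an involution with the large extraspecial centraliser of minus type in dimension four.
-/

set_option autoImplicit false
set_option maxRecDepth 100000

namespace CfsgLib.Sporadic.JTwoFive

open CfsgLib.SmallGroups CfsgLib.SmallGroups.PermChain
open CfsgLib.Sporadic.Icosian (J invol Ix involN)
open CfsgLib.Sporadic.Icosian.Centralizer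

/-- The images of four base points under a product of three. -/
def sigThree (a b c : ℕ) : List ℕ := [0, 1, 2, 3].map fun x => get a (get b (get c x))

/-- A generator acts on the kernel as no element of the kernel does. -/
def outerOK : Bool :=
  (gensOf chainA).any fun e => ok 105 e && Icosian.CentData.normalPart.all fun b => Icosian.CentData.normalPart.any fun a =>
    !(sigThree b.1 e.1 a.1 == sigThree a.1 b.1 e.1)

/-- Another member of the class of involutions lies in the kernel. -/
def conjOK : Bool :=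
  Icosian.CentData.normalPart.any fun a => (List.range 315).any fun i => !(i == 0) &&
    (List.range 100).all fun x => get a.1 x == get (involN i).1 x

theorem outer_ok : outerOK = true := by decide +kernel

theorem conj_ok2 : conjOK = true := by decide +kernel

theorem listed_mem {a : ℕ × ℕ} (ha : a ∈ Icosian.CentData.normalPart) :
    ∃ q : Ker, Rep a.1 (block q.1.1) := by
  have hall := List.all_eq_true.1 normal_ok.1 a ha
  simp only [normalOK, Bool.and_eq_true, List.all_eq_true, List.mem_range, beq_iff_eq] at hall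
  obtain ⟨⟨h1, h2⟩, h3⟩ := hall
  have hΓ := mem_grp_of_sift _ _ _ checkA (rep_fst h1) h2
  obtain ⟨⟨c, b⟩, hq⟩ := Γ_le hΓ
  have hb : b = 1 := Equiv.ext fun x => Fin.natAdd_injective 5 100 (Fin.ext (by
    have := rep_fst h1 (Fin.natAdd 100 x)
    rw [← hq, block_right] at this
    simp only [Fin.val_natAdd] at this
    rw [h3 x x.isLt] at this
    simp only [Equiv.Perm.one_apply, Fin.val_natAdd]
    exact this.symm))
  exact ⟨⟨⟨(c, b), show block (c, b) ∈ Γ by rw [hq]; exact hΓ⟩, MonoidHom.mem_ker.mpr (Subtype.ext hb)⟩,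
    by rw [hq]; exact rep_fst h1⟩

/-- The involution. -/
abbrev tJ : J := ⟨invol 0, Icosian.J_eq_closure ▸ Subgroup.subset_closure ⟨0, rfl⟩⟩

/-- The parametrisation of the centraliser. -/
noncomputable def toC : pairs ≃* Cen := MulEquiv.ofBijective toCen toCen_bijective

/-- The action of the centraliser on five points. -/
noncomputable def actC : Cen →* alternatingGroup (Fin 5) := toAlt.comp toC.symm.toMonoidHom

theorem actC_surjective : Function.Surjective actC := card_split.2.comp toC.symm.surjective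

theorem mem_kerC (p : pairs) : toC p ∈ actC.ker ↔ p ∈ Ker := by
  show toAlt (toC.symm (toC p)) = 1 ↔ _
  rw [toC.symm_apply_apply]
  rfl

/-- The normal subgroup and the kernel. -/
noncomputable def kerEquiv : Ker ≃* actC.ker :=
  { toFun := fun p => ⟨toC p.1, (mem_kerC _).2 p.2⟩
    invFun := fun p => ⟨toC.symm p.1, p.2⟩
    left_inv := fun _ => Subtype.ext (toC.symm_apply_apply _)
    right_inv := fun _ => Subtype.ext (toC.apply_symm_apply _)
    map_mul' := fun _ _ => Subtype.ext (map_mul toC _ _) }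

theorem centralizer_le : Subgroup.centralizer (actC.ker : Set Cen) ≤ actC.ker := by
  haveI : (Subgroup.centralizer (actC.ker : Set Cen)).Normal := inferInstance
  haveI : ((Subgroup.centralizer (actC.ker : Set Cen)).map actC).Normal :=
    Subgroup.Normal.map inferInstance actC actC_surjective
  haveI := alternatingGroup.isSimpleGroup_five
  rcases (inferInstance : ((Subgroup.centralizer (actC.ker : Set Cen)).map actC).Normal).eq_bot_or_eq_top with h | h
  · exact fun x hx => (Subgroup.map_eq_bot_iff _).1 h hx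
  exfalso
  have ho := outer_ok
  simp only [outerOK, List.any_eq_true, Bool.and_eq_true, List.all_eq_true, Bool.not_eq_true',
    beq_eq_false_iff_ne] at ho
  obtain ⟨e, he, hok, hall⟩ := ho
  have heΓ : toPerm 105 e ∈ Γ := Subgroup.subset_closure ⟨e, he, rfl⟩
  obtain ⟨w, hw⟩ := Γ_le heΓ
  let p : pairs := ⟨w, show block w ∈ Γ by rw [hw]; exact heΓ⟩
  obtain ⟨c, hc, hce⟩ : actC (toC p) ∈ (Subgroup.centralizer (actC.ker : Set Cen)).map actC := h ▸ Subgroup.mem_top _
  let q : Ker := ⟨toC.symm c * p⁻¹, MonoidHom.mem_ker.2 (by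
    rw [map_mul, map_inv, mul_inv_eq_one]
    exact hce.trans (congrArg toAlt (toC.symm_apply_apply p)))⟩
  obtain ⟨b, hb, hbok, hbe⟩ := ker_listed q
  obtain ⟨a, ha, hne⟩ := hall b hb
  obtain ⟨r, hr⟩ := listed_mem ha
  refine hne ?_
  have hcomm : q.1 * p * r.1 = r.1 * (q.1 * p) := by
    show toC.symm c * p⁻¹ * p * r.1 = r.1 * (toC.symm c * p⁻¹ * p)
    rw [inv_mul_cancel_right]
    apply toC.injective
    rw [map_mul, map_mul, toC.apply_symm_apply]
    exact ((Subgroup.mem_centralizer_iff.1 hc) _ ((mem_kerC _).2 r.2)).symm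
  have hperm := congrArg (fun z : pairs => block z.1) hcomm
  simp only [Subgroup.coe_mul, map_mul] at hperm
  have hrb : Rep b.1 (block q.1.1) := hbe ▸ rep_fst hbok
  have hre : Rep e.1 (block p.1) := by rw [show block p.1 = toPerm 105 e from hw]; exact rep_fst hok
  simp only [sigThree, List.map_cons, List.map_nil]
  have key : ∀ x : Fin 105, get b.1 (get e.1 (get a.1 x)) = get a.1 (get b.1 (get e.1 x)) := fun x => by
    rw [hr x, hre _, hrb _, hre x, hrb _, hr _]
    exact congrArg Fin.val (DFunLike.congr_fun hperm x)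
  rw [show get b.1 (get e.1 (get a.1 0)) = _ from key 0, show get b.1 (get e.1 (get a.1 1)) = _ from key 1,
    show get b.1 (get e.1 (get a.1 2)) = _ from key 2, show get b.1 (get e.1 (get a.1 3)) = _ from key 3]
  rfl

theorem generalizedFitting_eq : Cfsg.generalizedFittingSubgroup Cen = actC.ker := by
  haveI := alternatingGroup.isSimpleGroup_five
  haveI hp : Group.IsNilpotent actC.ker :=
    ((isExtraspecial_of_equiv kerEquiv isExtraspecial_Ker).1.1).isNilpotent
  refine le_antisymm (Components.generalizedFitting_le_of_centralizer_le _ ?_ centralizer_le)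
    ((Solvable.Cores.le_fittingSubgroup hp).trans le_sup_right)
  haveI : ((Cfsg.fittingSubgroup Cen).map actC).Normal := Subgroup.Normal.map inferInstance actC actC_surjective
  haveI : Group.IsNilpotent ((Cfsg.fittingSubgroup Cen).map actC) :=
    nilpotent_of_surjective _ (actC.subgroupMap_surjective (Cfsg.fittingSubgroup Cen))
  rcases (inferInstance : ((Cfsg.fittingSubgroup Cen).map actC).Normal).eq_bot_or_eq_top with h | h
  · exact fun x hx => (Subgroup.map_eq_bot_iff _).1 h hx
  exfalso
  have hn : Group.IsNilpotent (alternatingGroup (Fin 5)) := by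
    haveI : Group.IsNilpotent (⊤ : Subgroup (alternatingGroup (Fin 5))) := h ▸ inferInstance
    exact nilpotent_of_mulEquiv Subgroup.topEquiv
  haveI := hn
  haveI : Group.IsSolvable (alternatingGroup (Fin 5)) := inferInstance
  have hab := IsSimpleGroup.comm_iff_isSolvable.2 (inferInstance : Group.IsSolvable (alternatingGroup (Fin 5)))
  have hd : ¬ ∀ a b : alternatingGroup (Fin 5), a * b = b * a := by decide +kernel
  exact hd hab

theorem invol_ne : invol 0 ≠ 1 := fun h => by
  have h2 : Nat.card Cen = 604800 := by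
    rw [← Icosian.card_J, Nat.card_congr (Equiv.subtypeUnivEquiv fun g => ?_)]
    rw [Subgroup.mem_centralizer_singleton_iff]
    exact Subtype.ext (by simp [h])
  rw [card_Cen] at h2
  norm_num at h2

theorem spec_J : IsSimpleGroup J ∧ ¬ IsMulCommutative J ∧ ∃ z : J, orderOf z = 2 ∧
    ∃ (Q : Subgroup (Subgroup.centralizer ({z} : Set J))) (_ : Q.Normal),
      Cfsg.generalizedFittingSubgroup (Subgroup.centralizer ({z} : Set J)) = Q ∧ Cfsg.IsExtraspecial 2 Q ∧
      Nat.card Q = 2 ^ 5 ∧
      Nonempty ((Subgroup.centralizer ({z} : Set J)) ⧸ Q ≃* Cfsg.Omega (ZMod 2) (Cfsg.quadFormMinus 1 (ZMod 2) 1 1)) ∧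
      ∃ g : J, (∃ hq : g * z * g⁻¹ ∈ Subgroup.centralizer ({z} : Set J),
        (⟨g * z * g⁻¹, hq⟩ : Subgroup.centralizer ({z} : Set J)) ∈ Q) ∧ g * z * g⁻¹ ≠ z := by
  refine ⟨Icosian.J_simple, fun hc => ?_, tJ, ?_, actC.ker, inferInstance, generalizedFitting_eq,
    isExtraspecial_of_equiv kerEquiv isExtraspecial_Ker, ?_, ?_, ?_⟩
  · obtain ⟨a, b, hab⟩ := Icosian.J_not_comm
    exact hab (hc.is_comm.comm a b)
  · refine orderOf_eq_prime (Subtype.ext ?_) fun h => invol_ne (congrArg Subtype.val h)
    rw [pow_two]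
    exact Icosian.invol_sq 0
  · exact (Nat.card_congr kerEquiv.toEquiv).symm.trans card_split.1
  · obtain ⟨f⟩ := CfsgLib.Characterizations.HallJanko.omega_equiv
    exact ⟨(QuotientGroup.quotientKerEquivOfSurjective actC actC_surjective).trans f.symm⟩
  · have hco := conj_ok2
    simp only [conjOK, List.any_eq_true, Bool.and_eq_true, List.all_eq_true, List.mem_range, beq_iff_eq,
      Bool.not_eq_true', beq_eq_false_iff_ne] at hco
    obtain ⟨a, ha, i, hi, hi0, heq⟩ := hco
    obtain ⟨q, hq⟩ := listed_mem ha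
    have hperm : q.1.1.1 = invol ⟨i, hi⟩ := Equiv.ext fun x => Fin.ext (by
      have h1 := hq (Fin.castAdd 5 x)
      rw [block_left] at h1
      simp only [Fin.val_castAdd] at h1
      rw [← h1, heq x x.isLt]
      exact rep_fst (Icosian.invol_okAt ⟨i, hi⟩) x)
    obtain ⟨g, hg, e⟩ := Icosian.exists_conj 0 ⟨i, hi⟩
    refine ⟨Icosian.toJ ⟨g, hg⟩, ?_⟩
    have e' : (⟨g, hg⟩ : Cfsg.Spor.twoJ2) * ⟨Icosian.refl 0, Icosian.refl_mem_twoJ2 0⟩ * ⟨g, hg⟩⁻¹ =
        ⟨Icosian.refl ⟨i, hi⟩, Icosian.refl_mem_twoJ2 _⟩ := Subtype.ext e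
    have h0 : (tJ : J) = Icosian.toJ ⟨Icosian.refl 0, Icosian.refl_mem_twoJ2 0⟩ := Subtype.ext (Icosian.toJ_refl 0).symm
    have hconj : Icosian.toJ ⟨g, hg⟩ * tJ * (Icosian.toJ ⟨g, hg⟩)⁻¹ = ((toC q.1 : Cen) : J) := by
      rw [h0, ← map_inv, ← map_mul, ← map_mul, e']
      exact Subtype.ext ((Icosian.toJ_refl _).trans hperm.symm)
    refine ⟨⟨hconj ▸ (toC q.1).2, ?_⟩, fun h => ?_⟩
    · have : (⟨_, hconj ▸ (toC q.1).2⟩ : Cen) = toC q.1 := Subtype.ext hconj
      rw [this]
      exact (mem_kerC _).2 q.2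
    · rw [hconj] at h
      have h2 : invol ⟨i, hi⟩ = invol 0 := by rw [← hperm]; exact congrArg Subtype.val h
      exact hi0 (congrArg Fin.val (Icosian.invol_injective h2))

end CfsgLib.Sporadic.JTwoFive
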