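import Cfsg.Agent.Lib.Sporadic.JTwoFive.Counts
import Cfsg.Agent.Lib.Sporadic.JTwoFive.Element

/-!
The centraliser of the element of order five has order at most 6048000: a chain of six vectors.
-/

set_option autoImplicit false
set_option maxRecDepth 100000

namespace CfsgLib.Sporadic.JTwoFive

open Cfsg CfsgLib.SmallGroups CfsgLib.SmallGroups.Golay CfsgLib.SmallGroups.LeechEnum
  CfsgLib.SmallGroups.LeechParamCount CfsgLib.Schur.Sporadic

attribute [local irreducible] pc enc cw cwOfWeight

/-- The six vectors of the chain. -/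
noncomputable def base (k : ℕ) : leechLattice := Co1.comb (Co1.row (vecCoords.getD k []))

/-- The listed vectors in the lattice. -/
noncomputable def vv : ℕ → leechLattice
  | i => (x ^ (i % 4)) • base (i / 4)

theorem base_ok : ∀ k < 6, ∀ p : GolayPt, Co1.combI (vecCoords.getD k []) p = (vec (4 * k)).getD (idx p) 0 := by
  decide +kernel

theorem img_ok : ∀ i < 24, i % 4 < 3 → ∀ p : GolayPt,
    mulM (fun q => (vec i).getD (idx q) 0) p = 8 * (vec (i + 1)).getD (idx p) 0 := by
  decide +kernel

theorem coe_base {k : ℕ} (hk : k < 6) : ((base k : leechLattice) : GolayPt → ℤ) = ofPos fun l => (vec (4 * k)).getD l 0 :=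
  funext fun p => by rw [base, Co1.coe_comb, base_ok k hk]; rfl

theorem coe_vv : ∀ (j k : ℕ), j < 4 → k < 6 →
    ((x ^ j • base k : leechLattice) : GolayPt → ℤ) = ofPos fun l => (vec (4 * k + j)).getD l 0
  | 0, k, _, hk => by rw [pow_zero, one_smul, coe_base hk]; rfl
  | j + 1, k, hj, hk => by
    have ih := coe_vv j k (by omega) hk
    refine funext fun p => ?_
    rw [pow_succ', mul_smul, x_smul]
    have h := xfun_spec (x ^ j • base k) p
    rw [ih] at h
    have h2 := img_ok (4 * k + j) (by omega) (by omega) p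
    show _ = (vec (4 * k + j + 1)).getD (idx p) 0
    change mulM (fun q => (vec (4 * k + j)).getD (idx q) 0) p = _ at h
    omega

theorem coe_vv' {i : ℕ} (hi : i < 24) : ((vv i : leechLattice) : GolayPt → ℤ) = ofPos fun l => (vec i).getD l 0 := by
  rw [vv, coe_vv (i % 4) (i / 4) (by omega) (by omega), Nat.div_add_mod]

/-- The stabilisers of the chain in the centraliser. -/
noncomputable def St : ℕ → Subgroup Co0
  | 0 => Subgroup.centralizer {x}
  | k + 1 => St k ⊓ MulAction.stabilizer Co0 (base k)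

theorem St_le (k : ℕ) : St k ≤ Subgroup.centralizer {x} := by
  induction k with
  | zero => exact le_rfl
  | succ k ih => exact inf_le_left.trans ih

theorem St_comm {k : ℕ} {g : Co0} (hg : g ∈ St k) (j : ℕ) (v : leechLattice) : g • x ^ j • v = x ^ j • g • v := by
  rw [← mul_smul, ← mul_smul]
  congr 1
  exact ((show Commute g x from Subgroup.mem_centralizer_singleton_iff.1 (St_le k hg)).pow_right j).eq

theorem St_fix : ∀ {k : ℕ} {g : Co0}, g ∈ St k → ∀ j < k, g • base j = base j
  | 0, _, _, j, hj => absurd hj j.not_lt_zero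
  | k + 1, g, hg, j, hj => by
    rcases Nat.lt_succ_iff_lt_or_eq.1 hj with h | h
    · exact St_fix hg.1 j h
    · subst h; exact hg.2

theorem St_fix_vv {k : ℕ} {g : Co0} (hg : g ∈ St k) {i : ℕ} (hi : i < 4 * k) : g • vv i = vv i := by
  rw [vv, St_comm hg, St_fix hg _ (by omega)]

theorem norms_ok : ∀ k < 6, ∑ p : GolayPt, (vec (4 * k)).getD (idx p) 0 * (vec (4 * k)).getD (idx p) 0 = 32 := by
  decide +kernel

theorem dot0_ok : ∑ p : GolayPt, (vec 0).getD (idx p) 0 * (vec 1).getD (idx p) 0 = -16 := by decide +kernel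

theorem conds_ok : ∀ k < 5, ∀ e ∈ conds k, e.1 < 4 * (k + 1) ∧
    ∑ p : GolayPt, (vec (4 * (k + 1))).getD (idx p) 0 * (vec e.1).getD (idx p) 0 = e.2 := by
  decide +kernel

theorem norm_base {k : ℕ} (hk : k < 6) : sqNorm ((base k : leechLattice) : GolayPt → ℤ) = 32 := by
  rw [coe_base hk, ← norms_ok k hk]
  exact Finset.sum_congr rfl fun p _ => by rw [pow_two]; rfl

theorem good_orbit {k : ℕ} (hk : k < 6) (g : Co0) :
    LeechBasic.Good ((g • base k : leechLattice) : GolayPt → ℤ) ∧
      sqNorm ((g • base k : leechLattice) : GolayPt → ℤ) = 32 :=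
  ⟨LeechBasic.mem_lattice.1 (g • base k).2, by rw [norm_smul, norm_base hk]⟩

theorem PQ_orbit {g : Co0} (hg : g ∈ St 0) : PQ ((g • base 0 : leechLattice) : GolayPt → ℤ) := by
  have h : dotInt ((g • base 0 : leechLattice) : GolayPt → ℤ) ((x • g • base 0 : leechLattice) : GolayPt → ℤ) = -16 := by
    have e := St_comm hg 1 (base 0)
    rw [pow_one] at e
    rw [← e, dot_smul, coe_base (by norm_num), ← pow_one x, coe_vv 1 0 (by norm_num) (by norm_num)]
    exact dot0_ok
  rw [x_smul] at h
  show ∑ p, ((g • base 0 : leechLattice) : GolayPt → ℤ) p * mulM ((g • base 0 : leechLattice) : GolayPt → ℤ) p = _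
  simp only [xfun_spec]
  rw [show (-128 : ℤ) = 8 * -16 from rfl, ← h, dotInt, Finset.mul_sum]
  exact Finset.sum_congr rfl fun p _ => by ring

theorem PD_orbit {k : ℕ} (hk : k < 5) {g : Co0} (hg : g ∈ St (k + 1)) :
    PD k ((g • base (k + 1) : leechLattice) : GolayPt → ℤ) := by
  intro e he
  obtain ⟨h1, h2⟩ := conds_ok k hk e he
  have h := dot_smul g (base (k + 1)) (vv e.1)
  rw [St_fix_vv hg h1, coe_vv' (by omega), coe_base (show k + 1 < 6 by omega)] at h
  exact h.trans h2

theorem finite_min : {v : GolayPt → ℤ | sqNorm v = 32}.Finite := by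
  refine (Set.Finite.pi fun _ : GolayPt => Set.finite_Icc (-6 : ℤ) 6).subset fun v hv p _ => ?_
  have h : v p ^ 2 ≤ 32 := by
    have hv' : sqNorm v = 32 := hv
    rw [← hv']
    exact Finset.single_le_sum (f := fun q => v q ^ 2) (fun q _ => sq_nonneg _) (Finset.mem_univ p)
  constructor <;> nlinarith

theorem orbit_bound {k : ℕ} {P : (GolayPt → ℤ) → Prop} {t : Test} (ht : Sound t P) (hk : k < 6)
    (hP : ∀ g ∈ St k, P ((g • base k : leechLattice) : GolayPt → ℤ)) {b : ℕ} (hb : cnt t ≤ b) :
    Nat.card (St k) ≤ b * Nat.card (St (k + 1)) := by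
  haveI : Finite Co0 := Suz.finite_Co0
  have he : (MulAction.stabilizer Co0 (base k)).subgroupOf (St k) = MulAction.stabilizer (St k) (base k) := rfl
  have h := ((MulAction.stabilizer Co0 (base k)).subgroupOf (St k)).card_mul_index
  have hc : Nat.card ((MulAction.stabilizer Co0 (base k)).subgroupOf (St k)) = Nat.card (St (k + 1)) := by
    rw [← Subgroup.inf_subgroupOf_left]
    exact Nat.card_congr (Subgroup.subgroupOfEquivOfLe inf_le_left).toEquiv
  rw [hc] at h
  rw [← h, mul_comm]
  refine Nat.mul_le_mul_right _ ?_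
  rw [he, MulAction.index_stabilizer]
  refine le_trans ?_ ((ncard_le ht).trans hb)
  rw [← Set.ncard_image_of_injective _ (Subtype.val_injective : Function.Injective (Subtype.val : leechLattice → GolayPt → ℤ))]
  refine Set.ncard_le_ncard ?_ ?_
  · rintro _ ⟨_, ⟨⟨g, hg⟩, rfl⟩, rfl⟩
    exact ⟨(good_orbit hk g).1, (good_orbit hk g).2, hP g hg⟩
  · exact finite_min.subset fun v hv => hv.2.1

theorem span_ok : spanDen = 1 ∧ ∀ (j : Fin 24) (p : GolayPt),
    (∑ i : Fin 24, (spanRows.getD j.1 []).getD i.1 0 * (vec i.1).getD (idx p) 0) = Co1.bvec j p := by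
  decide +kernel

theorem St_six : St 6 = ⊥ := by
  rw [Subgroup.eq_bot_iff_forall]
  intro g hg
  let f : leechLattice →+ leechLattice := AddMonoidHom.mk' (fun v => g • v) g.2.1
  have hb : ∀ j : Fin 24, f (Co1.bL j) = Co1.bL j := by
    intro j
    have e : Co1.bL j = ∑ i : Fin 24, (spanRows.getD j.1 []).getD i.1 0 • vv i.1 := by
      refine Subtype.ext (funext fun p => ?_)
      have := span_ok.2 j p
      simp only [AddSubgroup.val_finsetSum, Finset.sum_apply, AddSubgroup.coe_zsmul, Pi.smul_apply, smul_eq_mul,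
        coe_vv' (Fin.is_lt _)]
      exact this.symm
    rw [e, map_sum]
    refine Finset.sum_congr rfl fun i _ => ?_
    rw [map_zsmul]
    exact congrArg _ (St_fix_vv hg i.isLt)
  refine Subtype.ext (Equiv.ext fun v => ?_)
  obtain ⟨c, rfl⟩ := Co1.mem_span v
  show f (Co1.comb c) = Co1.comb c
  rw [Co1.comb, map_sum]
  exact Finset.sum_congr rfl fun j _ => by rw [map_zsmul, hb]

theorem card_centralizer_le : Nat.card (Subgroup.centralizer {x} : Subgroup Co0) ≤ 6048000 := by
  have h0 := orbit_bound soundQ (show 0 < 6 by norm_num) (fun _ hg => PQ_orbit hg) count_Q.le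
  have hs : ∀ k, k < 5 → Nat.card (St (k + 1)) ≤ bound k * Nat.card (St (k + 1 + 1)) := fun k hk =>
    orbit_bound (soundD hk) (by omega) (fun _ hg => PD_orbit hk hg) (count_D hk)
  have h1 := hs 0 (by norm_num)
  have h2 := hs 1 (by norm_num)
  have h3 := hs 2 (by norm_num)
  have h4 := hs 3 (by norm_num)
  have h5 := hs 4 (by norm_num)
  have h6 : Nat.card (St (4 + 1 + 1)) = 1 := by rw [show 4 + 1 + 1 = 6 from rfl, St_six, Subgroup.card_bot]
  simp only [bound, Nat.reduceAdd] at h1 h2 h3 h4 h5 h6 h0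
  show Nat.card (St 0) ≤ _
  omega

end CfsgLib.Sporadic.JTwoFive
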